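import Groth.Agent.FlatLib.QStalk
import Groth.Agent.FlatLib.Local
import Groth.Agent.ConsLib.ModLoci
import Groth.Agent.ChowLib.Embed
import Groth.Agent.PicPnLib.BaseChange
import Groth.Agent.KFlatLib.PerfectPull

/-!
# Small lemmas with few dependencies
-/

set_option autoImplicit false

universe u

open CategoryTheory CategoryTheory.Limits AlgebraicGeometry TopologicalSpace Opposite

noncomputable section

namespace StratLib

/-- flat sections on an affine open give flatness at its points -/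
theorem flatAt_of_sections {X Y : Scheme.{u}} (f : X ⟶ Y) (M : X.Modules) [Coh.IsQCoh M]
    {U : Y.Opens} (hU : IsAffineOpen U) {V : X.Opens} (hV : IsAffineOpen V) (hVU : V ≤ f ⁻¹ᵁ U)
    [Algebra Γ(Y, U) Γ(X, V)] (halg : algebraMap Γ(Y, U) Γ(X, V) = (f.appLE U V hVU).hom)
    [Module Γ(Y, U) Γ(M, V)] [IsScalarTower Γ(Y, U) Γ(X, V) Γ(M, V)]
    [Module.Flat Γ(Y, U) Γ(M, V)] {x : X} (hx : x ∈ V) : FlatMod.IsFlatOverAt f M x :=
  (FlatLib.isFlatOverAt_iff f M U hU V hV hVU hx halg).2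
    (FlatLib.flat_localized (hV.primeIdealOf ⟨x, hx⟩).asIdeal.primeCompl
      (LocalizedModule.mkLinearMap _ Γ(M, V)))

theorem isCoh_restrict {U X : Scheme.{u}} (j : U ⟶ X) [IsOpenImmersion j] {F : X.Modules} (hF : Coh.IsCoh F) :
    Coh.IsCoh (F.restrict j) :=
  haveI := hF.1
  QCohLib.isCoh_of_iso ((Scheme.Modules.restrictFunctorIsoPullback j).app F).symm
    ⟨KFlatLib.isQCoh_pullback j F, ConsLib.isFT_pullback j F hF.2⟩

theorem isProper_toSpec (n : ℕ) (R : Type u) [CommRing R] : IsProper (CohB1.ProjSpace.toSpec n R) := by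
  obtain ⟨q, hq, -⟩ := PicPnLib.exists_map n R
  exact MorphismProperty.of_isPullback hq (ChowLib.isProper_toSpec n)

/-- A chart of a pullback from charts of the two factors. -/
theorem pullback_chart {X S X' S' : Scheme.{u}} {q : X ⟶ S} {h : S' ⟶ S} {gX : X' ⟶ X} {q' : X' ⟶ S'}
    (hX : IsPullback gX q' q h) {T : S.Opens} (hT : IsAffineOpen T) {T' : S'.Opens} (hT' : IsAffineOpen T')
    (eT : T' ≤ h ⁻¹ᵁ T) {U : X.Opens} (hU : IsAffineOpen U) (e : U ≤ q ⁻¹ᵁ T) :
    IsAffineOpen (gX ⁻¹ᵁ U ⊓ q' ⁻¹ᵁ T') ∧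
      IsPushout (q.appLE T U e) (h.appLE T T' eT)
        (gX.appLE U (gX ⁻¹ᵁ U ⊓ q' ⁻¹ᵁ T') inf_le_left) (q'.appLE T' (gX ⁻¹ᵁ U ⊓ q' ⁻¹ᵁ T') inf_le_right) := by
  constructor
  · have : IsAffine _ := hT
    have : IsAffine _ := hT'
    have : IsAffine _ := hU
    exact .of_isIso (Scheme.Hom.isPullback_resLE hX eT e rfl).isoPullback.hom
  · exact (isIso_pushoutSection_iff hX eT e rfl).mp (isIso_pushoutSection_of_isAffineOpen hX eT e rfl hT hT' hU)

end StratLib
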