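import Groth.Agent.StratLib.Dict
import Groth.Agent.FittLib.Comap
import Groth.Agent.FittLib.Generated
import Groth.Agent.CohBCLib.Cons
import Groth.Agent.QCohLib.Push

/-!
# Flatness of the pulled back module through the direct images of the twists
-/

set_option autoImplicit false
set_option maxHeartbeats 1000000

universe u

open CategoryTheory CategoryTheory.Limits AlgebraicGeometry TopologicalSpace Opposite TensorProduct GradedCechLib

noncomputable section

namespace StratLib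

/-- Finite flat sections give local freeness. -/
theorem isFinLocFree_of_flat_sections {X : Scheme.{u}} [IsLocallyNoetherian X] (M : X.Modules) [Coh.IsQCoh M]
    (hft : CohB1.IsFT M)
    (h : ∀ x : X, ∃ (V : X.Opens), IsAffineOpen V ∧ x ∈ V ∧ Module.Flat Γ(X, V) Γ(M, V)) :
    FlatMod.IsFinLocFree M := by
  intro x
  obtain ⟨V, hV, hx, hfl⟩ := h x
  haveI := QCohLib.finite_of_isFT hft hV
  haveI : IsNoetherianRing Γ(X, V) := IsLocallyNoetherian.component_noetherian ⟨V, hV⟩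
  haveI : Module.FinitePresentation Γ(X, V) Γ(M, V) := Module.finitePresentation_of_finite _ _
  haveI := hfl
  let P := (hV.primeIdealOf ⟨x, hx⟩).asIdeal
  haveI : Module.Flat (Localization.AtPrime P) (LocalizedModule P.primeCompl Γ(M, V)) :=
    Module.Flat.localizedModule _
  haveI : Module.Free (Localization.AtPrime P) (LocalizedModule P.primeCompl Γ(M, V)) :=
    Module.free_of_flat_of_isLocalRing
  obtain ⟨f, hf, hfree, hr⟩ := Module.FinitePresentation.exists_free_localizedModule_powers (R := Γ(X, V))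
    P.primeCompl (LocalizedModule.mkLinearMap P.primeCompl Γ(M, V)) (Localization.AtPrime P)
  haveI := FittLib.nontrivial_away hf
  haveI : Module.Finite (Localization.Away f) (LocalizedModule (Submonoid.powers f) Γ(M, V)) :=
    Module.Finite.of_isLocalizedModule (Submonoid.powers f) (LocalizedModule.mkLinearMap (Submonoid.powers f) Γ(M, V))
  haveI := hfree
  refine ⟨X.basicOpen f, _, ?_, CohBCLib.nonempty_restrict_iso_freeMod hV M f (Module.finBasis _ _)⟩
  letI : Algebra Γ(X, V) (X.presheaf.stalk x) := (X.presheaf.germ V x hx).hom.toAlgebra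
  have hloc := hV.isLocalization_stalk ⟨x, hx⟩
  exact (X.mem_basicOpen f x hx).mpr
    ((IsLocalization.AtPrime.isUnit_to_map_iff (X.presheaf.stalk x) _ f).mpr hf)

/-- The fibre rank of a module of finite type. -/
def rkAt {X : Scheme.{u}} (M : X.Modules) (x : X) : ℕ :=
  sInf {k : ℕ | x ∉ (Fitt.sheafIdeal M k).support}

theorem rkAt_eq {X : Scheme.{u}} (M : X.Modules) [Coh.IsQCoh M] (hft : CohB1.IsFT M) {U : X.Opens}
    (hU : IsAffineOpen U) {x : X} (hx : x ∈ U) :
    rkAt M x = Module.finrank (hU.primeIdealOf ⟨x, hx⟩).asIdeal.ResidueField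
      ((hU.primeIdealOf ⟨x, hx⟩).asIdeal.ResidueField ⊗[Γ(X, U)] Γ(M, U)) := by
  haveI := QCohLib.finite_of_isFT hft hU
  have key : ∀ k : ℕ, x ∉ (Fitt.sheafIdeal M k).support ↔
      Module.finrank (hU.primeIdealOf ⟨x, hx⟩).asIdeal.ResidueField
        ((hU.primeIdealOf ⟨x, hx⟩).asIdeal.ResidueField ⊗[Γ(X, U)] Γ(M, U)) ≤ k := fun k => by
    rw [FittLib.mem_support_iff M hft k hU hx, FittLib.finrank_fibre_le_iff]
  refine le_antisymm (Nat.sInf_le ((key _).2 le_rfl)) ?_
  refine le_csInf ⟨_, (key _).2 le_rfl⟩ fun k hk => (key k).1 hk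

variable {n : ℕ} {S : Scheme.{u}}

/-- The direct images of the twists. -/
abbrev imF (F : (CohB1.ProjSpaceOver n S).Modules) (m : ℤ) : S.Modules :=
  (Coh.push (CohB1.ProjSpaceOver.toBase n S)).obj (twF F m)

/-- Sections of a direct image, as sections over the base. -/
def pushSec (G : (CohB1.ProjSpaceOver n S).Modules) (W : S.Opens) :
    SecA (CohB1.ProjSpaceOver.toBase n S) G W (CohB1.ProjSpaceOver.toBase n S ⁻¹ᵁ W) le_rfl ≃ₗ[Γ(S, W)]
      Γ((Coh.push (CohB1.ProjSpaceOver.toBase n S)).obj G, W) where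
  toFun x := (show Γ(G, CohB1.ProjSpaceOver.toBase n S ⁻¹ᵁ W) from x)
  invFun x := (show Γ(G, CohB1.ProjSpaceOver.toBase n S ⁻¹ᵁ W) from x)
  left_inv x := rfl
  right_inv x := rfl
  map_add' x y := rfl
  map_smul' a x := by
    show ((CohB1.ProjSpaceOver.toBase n S).appLE W _ le_rfl a) • (show Γ(G, _ ⁻¹ᵁ W) from x) =
      ((CohB1.ProjSpaceOver.toBase n S).app W a) • (show Γ(G, _ ⁻¹ᵁ W) from x)
    rw [Scheme.Hom.app_eq_appLE]

variable [IsNoetherian S] (F : (CohB1.ProjSpaceOver n S).Modules) (hF : Coh.IsCoh F)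

include hF in
theorem isQCoh_imF (m : ℤ) : Coh.IsQCoh (imF F m) := by
  haveI : IsProper (CohB1.ProjSpaceOver.toBase n S) := ChowLib.isProper_toBase n S
  haveI := (SerreVanLib.isCoh_tensor hF (PicPnLib.twistOver_inv n S m)).1
  exact QCohLib.isQCoh_pushforward _ _

include hF in
theorem isFT_imF (m : ℕ) : CohB1.IsFT (imF F (m : ℤ)) := by
  haveI := isQCoh_imF F hF (m : ℤ)
  refine QCohLib.isFT_of_finite fun x => ?_
  obtain ⟨_, ⟨W, hW, rfl⟩, hx, -⟩ := S.isBasis_affineOpens.exists_subset_of_mem_open (Set.mem_univ x) isOpen_univ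
  haveI : IsNoetherianRing Γ(S, W) := IsLocallyNoetherian.component_noetherian ⟨W, hW⟩
  obtain ⟨N, _, _, _, _, G, hG, -, -, hsec, -⟩ := exists_local_model hW F hF
  obtain ⟨e⟩ := hsec m
  haveI : Module.Finite Γ(S, W) (YG G m 0) := finite_K0 _ (finite_H G hG m 0)
  exact ⟨W, hW, hx, Module.Finite.equiv (e ≪≫ₗ pushSec (twF F (m : ℤ)) W)⟩

include hF in
/-- **Over an affine open of the base.** -/
theorem exists_local_bound {W : S.Opens} (hW : IsAffineOpen W) :
    ∃ (N₀ : ℕ), (∃ R : Finset (ℕ → ℕ), ∀ s ∈ W, ∃ r ∈ R, ∀ m, N₀ ≤ m → rkAt (imF F (m : ℤ)) s = r m) ∧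
      (∀ s ∈ W, ∀ m, N₀ ≤ m → ∀ {X' : Scheme.{u}} {g' : X' ⟶ CohB1.ProjSpaceOver n S}
        {f' : X' ⟶ Spec (S.residueField s)},
        IsPullback g' f' (CohB1.ProjSpaceOver.toBase n S) (S.fromSpecResidueField s) →
        letI : X'.Over (Spec (CommRingCat.of (S.residueField s))) := ⟨f'⟩
        Module.finrank (S.residueField s) (Coh.HH X' ((Scheme.Modules.pullback g').obj (twF F (m : ℤ))) 0) =
            rkAt (imF F (m : ℤ)) s ∧
          ∀ p, Subsingleton (Coh.HH X' ((Scheme.Modules.pullback g').obj (twF F (m : ℤ))) (p + 1))) ∧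
      ∀ {T : Scheme.{u}} [IsLocallyNoetherian T] (φ : T ⟶ S) {V : T.Opens}, IsAffineOpen V → V ≤ φ ⁻¹ᵁ W →
        ((∀ z, CohB1.ProjSpaceOver.toBase n T z ∈ V → FlatMod.IsFlatOverAt (CohB1.ProjSpaceOver.toBase n T)
            ((Scheme.Modules.pullback (FGA.projMap n φ)).obj F) z) →
          ∀ m, N₀ ≤ m → Module.Flat Γ(T, V) Γ((Scheme.Modules.pullback φ).obj (imF F (m : ℤ)), V)) ∧
        ∀ M : ℕ, (∀ m, M ≤ m → Module.Flat Γ(T, V) Γ((Scheme.Modules.pullback φ).obj (imF F (m : ℤ)), V)) →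
          ∀ z, CohB1.ProjSpaceOver.toBase n T z ∈ V → FlatMod.IsFlatOverAt (CohB1.ProjSpaceOver.toBase n T)
            ((Scheme.Modules.pullback (FGA.projMap n φ)).obj F) z := by
  classical
  haveI : IsNoetherianRing Γ(S, W) := IsLocallyNoetherian.component_noetherian ⟨W, hW⟩
  haveI := hF.1
  obtain ⟨N, _, _, _, _, G, hG, hgf, ⟨Vs, eVs, hVs, hcov⟩, hsec, hfib⟩ := exists_local_model hW F hF
  obtain ⟨N₀, R, hR⟩ := exists_bound G hgf hG
  refine ⟨N₀, ⟨R, fun s hs => ?_⟩, fun s hs m hm X' g' f' H => ?_, fun {T} _ φ {V} hV hVW => ?_⟩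
  · obtain ⟨r, hr, hr'⟩ := (hR (hW.primeIdealOf ⟨s, hs⟩)).2
    refine ⟨r, hr, fun m hm => ?_⟩
    haveI := isQCoh_imF F hF (m : ℤ)
    obtain ⟨e⟩ := hsec m
    rw [rkAt_eq _ (isFT_imF F hF m) hW hs, ← hr' m hm]
    exact (AlgebraTensorModule.congr (LinearEquiv.refl _ _) (e ≪≫ₗ pushSec (twF F (m : ℤ)) W)).finrank_eq.symm
  · let K := S.residueField s
    let ev : Γ(S, W) →+* K := (S.evaluation W s hs).hom
    letI : Algebra Γ(S, W) K := ev.toAlgebra
    have hv : Spec.map (CommRingCat.ofHom (algebraMap Γ(S, W) K)) ≫ hW.fromSpec = S.fromSpecResidueField s := by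
      show Spec.map (S.presheaf.germ W s hs ≫ S.residue s) ≫ hW.fromSpec = _
      rw [Spec.map_comp, Category.assoc, Scheme.fromSpecResidueField, ← hW.fromSpecStalk_eq_fromSpecStalk hs]
      rfl
    let q : PrimeSpectrum Γ(S, W) := (⊥ : PrimeSpectrum K).comap (algebraMap Γ(S, W) K)
    have hq : q = hW.primeIdealOf ⟨s, hs⟩ := hW.fromSpec.isOpenEmbedding.injective (by
      rw [hW.fromSpec_primeIdealOf]
      show (Spec.map (CommRingCat.ofHom (algebraMap Γ(S, W) K)) ≫ hW.fromSpec) (⊥ : PrimeSpectrum K) = s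
      rw [hv]
      exact Scheme.fromSpecResidueField_apply s _)
    letI : Algebra q.asIdeal.ResidueField K :=
      (Ideal.ResidueField.lift q.asIdeal (algebraMap Γ(S, W) K) (fun a ha => ha) fun a ha =>
        isUnit_iff_ne_zero.2 ha).toAlgebra
    haveI : IsScalarTower Γ(S, W) q.asIdeal.ResidueField K := IsScalarTower.of_algebraMap_eq fun a => by
      rw [RingHom.algebraMap_toAlgebra (R := q.asIdeal.ResidueField), Ideal.ResidueField.lift_algebraMap]
    have hex : ExT (YG G m) (dG G m) K := (exT_bc_iff q.asIdeal.ResidueField K).1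
      (((exT_bc_iff q.asIdeal.ResidueField q.asIdeal.ResidueField).2 ((hR q).1 m hm)).of_flat K)
    obtain ⟨h0, hp⟩ := hfib m hex (hv.symm ▸ H)
    refine ⟨h0.trans ?_, hp⟩
    haveI := isQCoh_imF F hF (m : ℤ)
    obtain ⟨e⟩ := hsec m
    rw [rkAt_eq _ (isFT_imF F hF m) hW hs, ← hq,
      ← (AlgebraTensorModule.cancelBaseChange Γ(S, W) q.asIdeal.ResidueField K K (YG G m 0)).finrank_eq,
      Module.finrank_baseChange]
    exact (AlgebraTensorModule.congr (LinearEquiv.refl _ _) (e ≪≫ₗ pushSec (twF F (m : ℤ)) W)).finrank_eq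
  · haveI : IsNoetherianRing Γ(T, V) := IsLocallyNoetherian.component_noetherian ⟨V, hV⟩
    letI : Algebra Γ(S, W) Γ(T, V) := (φ.appLE W V hVW).hom.toAlgebra
    have sq : IsPullback (FGA.projMap n φ) (CohB1.ProjSpaceOver.toBase n T) (CohB1.ProjSpaceOver.toBase n S) φ := by
      have h1 : FGA.projMap n φ = pullback.lift (pullback.fst _ _) (CohB1.ProjSpaceOver.toBase n T ≫ φ) (by
          refine pullback.condition.trans ?_
          rw [Category.assoc]
          exact congrArg _ (specULiftZIsTerminal.hom_ext _ _)) :=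
        pullback.hom_ext ((pullback.lift_fst _ _ _).trans ((Category.comp_id _).trans (pullback.lift_fst _ _ _).symm))
          ((pullback.lift_snd _ _ _).trans (pullback.lift_snd _ _ _).symm)
      rw [h1]
      refine IsPullback.of_right ?_ (pullback.lift_snd _ _ _) (IsPullback.of_hasPullback _ _)
      erw [pullback.lift_fst]
      rw [specULiftZIsTerminal.hom_ext (φ ≫ _) (specULiftZIsTerminal.from T)]
      exact IsPullback.of_hasPullback _ _
    have hpush : ∀ m : ℕ, Module.Flat Γ(T, V) Γ((Scheme.Modules.pullback φ).obj (imF F (m : ℤ)), V) ↔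
        Module.Flat Γ(T, V) (Γ(T, V) ⊗[Γ(S, W)] YG G m 0) := fun m => by
      haveI := isQCoh_imF F hF (m : ℤ)
      let E := imF F (m : ℤ)
      letI : Module Γ(S, W) Γ(KFlatLib.pb φ E, V) := Module.compHom _ (φ.appLE W V hVW).hom
      haveI : IsScalarTower Γ(S, W) Γ(T, V) Γ(KFlatLib.pb φ E, V) := IsScalarTower.of_algebraMap_smul fun _ _ => rfl
      let ψ : Γ(E, W) →ₗ[Γ(S, W)] Γ(KFlatLib.pb φ E, V) :=
        { toFun := KFlatLib.puSecLE φ E hVW
          map_add' := fun a b => map_add (KFlatLib.puSecLE φ E hVW) a b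
          map_smul' := fun r x => KFlatLib.puSecLE_smul φ E hVW r x }
      have hb := KFlatLib.isBaseChange_puSec φ E hW hV hVW (fun _ => rfl) ψ (fun _ => rfl)
      obtain ⟨e⟩ := hsec m
      let Φ : Γ(T, V) ⊗[Γ(S, W)] YG G m 0 ≃ₗ[Γ(T, V)] Γ(KFlatLib.pb φ E, V) :=
        AlgebraTensorModule.congr (LinearEquiv.refl _ _) (e ≪≫ₗ pushSec (twF F (m : ℤ)) W) ≪≫ₗ hb.equiv
      exact ⟨fun h => @Module.Flat.of_linearEquiv _ _ _ _ _ _ _ _ h Φ,
        fun h => @Module.Flat.of_linearEquiv _ _ _ _ _ _ _ _ h Φ.symm⟩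
    refine ⟨fun hflat m hm => (hpush m).2 ?_, fun M h z hz => ?_⟩
    · refine flat_Z0_of_flat_charts G hG Γ(T, V) (fun s hs => ?_) m fun q => (hR q).1 m hm
      obtain ⟨hVa, ⟨e⟩⟩ := hVs s hs
      haveI := (flat_chart_iff sq F hW hV hVW hVa (eVs s)).2 fun z _ hz => hflat z hz
      exact Module.Flat.of_linearEquiv (AlgebraTensorModule.congr (LinearEquiv.refl Γ(T, V) Γ(T, V)) e)
    · have hzW : CohB1.ProjSpaceOver.toBase n S (FGA.projMap n φ z) ∈ W := by
        rw [← Scheme.Hom.comp_apply, sq.w, Scheme.Hom.comp_apply]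
        exact hVW hz
      obtain ⟨i, hi⟩ := hcov _ hzW
      obtain ⟨hVa, ⟨e⟩⟩ := hVs (rng (oneJ i)) ⟨i, by simp [rng, oneJ]⟩
      haveI := flat_chart_of_flat_Z0 G Γ(T, V) M (fun m hm => (hpush m).1 (h m hm)) i
      exact (flat_chart_iff sq F hW hV hVW hVa (eVs _)).1
        (Module.Flat.of_linearEquiv (AlgebraTensorModule.congr (LinearEquiv.refl Γ(T, V) Γ(T, V)) e).symm) z hi hz

end StratLib
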