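import Groth.Agent.StratLib.Local
import Groth.Agent.RankLocusLib.Mod
import Groth.Agent.SeesawLib.Ranks
import Groth.Agent.FittLib.Props

/-!
# Strata of constant ranks of a sequence of modules
-/

set_option autoImplicit false

universe u

open CategoryTheory CategoryTheory.Limits AlgebraicGeometry TopologicalSpace Opposite

noncomputable section

namespace StratLib

variable {S : Scheme.{u}}

section One

variable (E : S.Modules) [Coh.IsQCoh E] (hft : CohB1.IsFT E)

include hft in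
theorem notMem_support_iff (x : S) (k : ℕ) : x ∉ (Fitt.sheafIdeal E k).support ↔ rkAt E x ≤ k := by
  obtain ⟨_, ⟨U, hU, rfl⟩, hx, -⟩ := S.isBasis_affineOpens.exists_subset_of_mem_open (Set.mem_univ x) isOpen_univ
  haveI := QCohLib.finite_of_isFT hft hU
  rw [rkAt_eq E hft hU hx, FittLib.mem_support_iff E hft k hU hx, FittLib.finrank_fibre_le_iff]

include hft in
theorem sheafIdeal_mono {k l : ℕ} (h : k ≤ l) : Fitt.sheafIdeal E k ≤ Fitt.sheafIdeal E l := fun U => by
  haveI := QCohLib.finite_of_isFT hft U.2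
  rw [FittLib.sheafIdeal_ideal E hft k U, FittLib.sheafIdeal_ideal E hft l U]
  exact FittLib.ideal_monotone h

/-- The lower Fitting ideal of a rank. -/
def low : ℕ → S.IdealSheafData
  | 0 => ⊥
  | r + 1 => Fitt.sheafIdeal E r

include hft in
/-- Rank `r` along a morphism, through Fitting ideals. -/
theorem locFreeOfRank_pullback_iff {T : Scheme.{u}} (f : T ⟶ S) (r : ℕ) :
    FlatMod.IsFinLocFreeOfRank r ((Scheme.Modules.pullback f).obj E) ↔
      (low E r).comap f = ⊥ ∧ ∀ t : T, rkAt E (f t) ≤ r := by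
  haveI : Coh.IsQCoh ((Scheme.Modules.pullback f).obj E) := KFlatLib.isQCoh_pullback f E
  rw [FittLib.isFinLocFreeOfRank_iff _ (ConsLib.isFT_pullback f E hft) r]
  simp only [← FittLib.sheafIdeal_comap f E hft]
  have htop : ∀ k, (Fitt.sheafIdeal E k).comap f = ⊤ ↔ ∀ t : T, rkAt E (f t) ≤ k := fun k => by
    rw [← Scheme.IdealSheafData.support_eq_bot_iff, Scheme.IdealSheafData.support_comap]
    refine ⟨fun h t => (notMem_support_iff E hft (f t) k).1 fun ht => ?_, fun h => SetLike.ext fun t => ?_⟩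
    · exact (h.le (show t ∈ (Fitt.sheafIdeal E k).support.preimage f.continuous from ht) : t ∈ (⊥ : Closeds T))
    · exact ⟨fun ht => absurd ht ((notMem_support_iff E hft (f t) k).2 (h t)), fun ht => False.elim ht⟩
  constructor
  · rintro ⟨h1, h2⟩
    refine ⟨?_, (htop r).1 (h2 r le_rfl)⟩
    rcases r with _ | r
    · exact Scheme.IdealSheafData.comap_bot _
    · exact h1 r (Nat.lt_succ_self r)
  · rintro ⟨h1, h2⟩
    refine ⟨fun k hk => ?_, fun k hk => (htop k).2 fun t => (h2 t).trans hk⟩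
    rcases r with _ | r
    · exact absurd hk (Nat.not_lt_zero k)
    · exact le_bot_iff.1 ((Scheme.IdealSheafData.comap_mono f (sheafIdeal_mono E hft (Nat.le_of_lt_succ hk))).trans h1.le)

include hft in
theorem mem_support_low_iff (x : S) (r : ℕ) : x ∈ (low E r).support ↔ r ≤ rkAt E x := by
  rcases r with _ | r
  · exact iff_of_true trivial (Nat.zero_le _)
  · rw [low, ← not_iff_not, notMem_support_iff E hft x r]
    omega

include hft in
theorem rkAt_of_freeAlong {T : Scheme.{u}} (f : T ⟶ S) {V : T.Opens} {k : ℕ}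
    (h : RankLocusLib.FreeAlong k E (V.ι ≫ f)) {t : T} (ht : t ∈ V) : rkAt E (f t) = k := by
  have h1 : FlatMod.IsFinLocFreeOfRank k ((Scheme.Modules.pullback (V.ι ≫ f)).obj E) :=
    (RankLocusLib.isFinLocFreeOfRank_pullback_iff E _).2 fun x => ⟨⊤, trivial, RankLocusLib.freeAlong_comp h _⟩
  obtain ⟨h2, h3⟩ := (locFreeOfRank_pullback_iff E hft _ k).1 h1
  refine le_antisymm (h3 ⟨t, ht⟩) ((mem_support_low_iff E hft _ k).1 ?_)
  have h4 : ((low E k).comap (V.ι ≫ f)).support = ⊤ := by rw [h2, Scheme.IdealSheafData.support_bot]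
  rw [Scheme.IdealSheafData.support_comap] at h4
  exact h4.ge (Set.mem_univ (⟨t, ht⟩ : V.toScheme))

end One

variable (E : ℕ → S.Modules) (hq : ∀ m, Coh.IsQCoh (E m)) (hft : ∀ m, CohB1.IsFT (E m))

include hq hft in
/-- **The strata of constant ranks.** -/
theorem exists_strata (R : Finset (ℕ → ℕ)) (hR : ∀ s : S, ∃ r ∈ R, ∀ m, rkAt (E m) s = r m) :
    ∃ (St : ↥R → Scheme.{u}) (e : ∀ r : ↥R, St r ⟶ S), (∀ r, IsImmersion (e r)) ∧
      (∀ (r : ↥R) (s : S), s ∈ Set.range (e r) ↔ ∀ m, rkAt (E m) s = r.1 m) ∧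
      ∀ (T : Scheme.{u}) (φ : T ⟶ S), (∀ m, FlatMod.IsFinLocFree ((Scheme.Modules.pullback φ).obj (E m))) ↔
        ∃ g : T ⟶ ∐ St, g ≫ Limits.Sigma.desc e = φ := by
  classical
  haveI := hq
  -- finitely many indices separate the functions
  have hsep : ∀ p : ↥R × ↥R, ∃ m : ℕ, p.1 ≠ p.2 → p.1.1 m ≠ p.2.1 m := fun p => by
    by_cases h : p.1 = p.2
    · exact ⟨0, fun hne => absurd h hne⟩
    · obtain ⟨m, hm⟩ := Function.ne_iff.1 (fun e => h (Subtype.ext e) : p.1.1 ≠ p.2.1)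
      exact ⟨m, fun _ => hm⟩
  choose sep hsep using hsep
  let M : Finset ℕ := Finset.univ.image sep
  have hM : ∀ (s : S) (r : ↥R), (∀ m ∈ M, rkAt (E m) s = r.1 m) → ∀ m, rkAt (E m) s = r.1 m := fun s r h m => by
    obtain ⟨r', hr', hs⟩ := hR s
    by_cases hrr : r = ⟨r', hr'⟩
    · rw [hrr]; exact hs m
    · exact absurd ((h _ (Finset.mem_image.2 ⟨(r, ⟨r', hr'⟩), Finset.mem_univ _, rfl⟩)).symm.trans (hs _))
        (hsep (r, ⟨r', hr'⟩) hrr)
  let U : ↥R → S.Opens := fun r =>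
    ⟨⋂ m ∈ M, ((Fitt.sheafIdeal (E m) (r.1 m)).support : Set S)ᶜ,
      isOpen_biInter_finset fun m _ => (Fitt.sheafIdeal (E m) (r.1 m)).support.isClosed.isOpen_compl⟩
  let J : ↥R → S.IdealSheafData := fun r => ⨆ m, low (E m) (r.1 m)
  let St : ↥R → Scheme.{u} := fun r => ((J r).comap (U r).ι).subscheme
  let e : ∀ r, St r ⟶ S := fun r => ((J r).comap (U r).ι).subschemeι ≫ (U r).ι
  have hmemU : ∀ r s, s ∈ U r ↔ ∀ m ∈ M, rkAt (E m) s ≤ r.1 m := fun r s => by
    show s ∈ (⋂ m ∈ M, ((Fitt.sheafIdeal (E m) (r.1 m)).support : Set S)ᶜ) ↔ _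
    simp only [Set.mem_iInter, Set.mem_compl_iff, SetLike.mem_coe]
    exact forall₂_congr fun m _ => notMem_support_iff (E m) (hft m) s _
  have hrange : ∀ (r : ↥R) (s : S), s ∈ Set.range (e r) ↔ ∀ m, rkAt (E m) s = r.1 m := fun r s => by
    have h1 : Set.range (e r) = (U r).ι '' ((U r).ι ⁻¹' ((J r).support : Set S)) := by
      show Set.range (((J r).comap (U r).ι).subschemeι ≫ (U r).ι) = _
      rw [Scheme.Hom.comp_base, TopCat.coe_comp, Set.range_comp, Scheme.IdealSheafData.range_subschemeι,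
        Scheme.IdealSheafData.support_comap]
      rfl
    rw [h1]
    constructor
    · rintro ⟨⟨s, hs⟩, hJ, rfl⟩
      have hJ' : ∀ m, s ∈ (low (E m) (r.1 m)).support := fun m => by
        have := (Scheme.IdealSheafData.support_antitone (le_iSup (fun m => low (E m) (r.1 m)) m)) hJ
        exact this
      exact hM s r fun m hm =>
        le_antisymm ((hmemU r s).1 hs m hm) ((mem_support_low_iff (E m) (hft m) s _).1 (hJ' m))
    · intro h
      refine ⟨⟨s, (hmemU r s).2 fun m _ => (h m).le⟩, ?_, rfl⟩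
      show s ∈ ((J r).support : Set S)
      simp only [J, Scheme.IdealSheafData.support_iSup, Closeds.coe_iInf, Set.mem_iInter, SetLike.mem_coe]
      exact fun m => (mem_support_low_iff (E m) (hft m) s _).2 (h m).ge
  have hfac : ∀ (r : ↥R) {T : Scheme.{u}} (f : T ⟶ S),
      (∃ g : T ⟶ St r, g ≫ e r = f) ↔ ∀ m, FlatMod.IsFinLocFreeOfRank (r.1 m) ((Scheme.Modules.pullback f).obj (E m)) := by
    intro r T f
    simp only [fun m => locFreeOfRank_pullback_iff (E m) (hft m) f (r.1 m)]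
    constructor
    · rintro ⟨g, hg⟩ m
      refine ⟨?_, fun t => ?_⟩
      · rw [← hg, ← le_bot_iff, ← Scheme.IdealSheafData.le_map_iff_comap_le]
        refine (le_iSup (fun m => low (E m) (r.1 m)) m).trans ?_
        rw [Scheme.IdealSheafData.le_map_iff_comap_le, Scheme.IdealSheafData.comap_comp]
        show ((J r).comap (((J r).comap (U r).ι).subschemeι ≫ (U r).ι)).comap g ≤ ⊥
        rw [Scheme.IdealSheafData.comap_comp]
        refine (Scheme.IdealSheafData.comap_mono g ?_).trans (Scheme.IdealSheafData.comap_bot g).le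
        rw [← Scheme.IdealSheafData.le_map_iff_comap_le, Scheme.IdealSheafData.map_bot,
          Scheme.IdealSheafData.ker_subschemeι]
      · rw [← hg, Scheme.Hom.comp_apply]
        exact ((hrange r _).1 ⟨g t, rfl⟩ m).le
    · intro h
      have hU : Set.range f ⊆ Set.range (U r).ι := by
        rintro _ ⟨t, rfl⟩
        rw [Scheme.Opens.range_ι]
        exact (hmemU r _).2 fun m _ => (h m).2 t
      let f' := IsOpenImmersion.lift (U r).ι f hU
      have hf' : f' ≫ (U r).ι = f := IsOpenImmersion.lift_fac _ _ _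
      have hker : ((J r).comap (U r).ι).subschemeι.ker ≤ f'.ker := by
        rw [Scheme.IdealSheafData.ker_subschemeι, ← Scheme.IdealSheafData.map_bot,
          Scheme.IdealSheafData.le_map_iff_comap_le, ← Scheme.IdealSheafData.comap_comp, hf',
          (Scheme.IdealSheafData.map_gc f).l_iSup]
        exact iSup_le fun m => (h m).1.le
      refine ⟨IsClosedImmersion.lift ((J r).comap (U r).ι).subschemeι f' hker, ?_⟩
      show _ ≫ ((J r).comap (U r).ι).subschemeι ≫ (U r).ι = f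
      rw [← Category.assoc, IsClosedImmersion.lift_fac, hf']
  refine ⟨St, e, fun r => inferInstance, hrange, fun T φ => ⟨fun h => ?_, ?_⟩⟩
  · have hconst : ∀ t : T, ∃ V : T.Opens, t ∈ V ∧ ∀ m ∈ M, ∀ t' ∈ V, rkAt (E m) (φ t') = rkAt (E m) (φ t) := by
      intro t
      have h1 : ∀ m, ∃ V : T.Opens, t ∈ V ∧ ∀ t' ∈ V, rkAt (E m) (φ t') = rkAt (E m) (φ t) := fun m => by
        obtain ⟨V, k, hV, hVf⟩ := h m t
        have hA : RankLocusLib.FreeAlong k (E m) (V.ι ≫ φ) :=
          (RankLocusLib.freeAlong_pullback_iff φ V.ι).1 ((RankLocusLib.freeAlong_restrict_iff _ V).2 hVf)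
        exact ⟨V, hV, fun t' ht' =>
          (rkAt_of_freeAlong (E m) (hft m) φ hA ht').trans (rkAt_of_freeAlong (E m) (hft m) φ hA hV).symm⟩
      choose V hV hV' using h1
      exact ⟨M.inf V, by rw [← SetLike.mem_coe, Opens.coe_finset_inf]; simp [hV],
        fun m hm t' ht' => hV' m t' ((Finset.inf_le hm : M.inf V ≤ V m) ht')⟩
    let Tp : ↥R → T.Opens := fun r => ⟨{t | ∀ m, rkAt (E m) (φ t) = r.1 m}, isOpen_iff_forall_mem_open.2 fun t ht => by
      obtain ⟨V, hV, hV'⟩ := hconst t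
      exact ⟨V, fun t' ht' => hM _ r fun m hm => (hV' m hm t' ht').trans (ht m), V.2, hV⟩⟩
    have hcov : ⨆ r, Tp r = ⊤ := top_le_iff.1 fun t _ => by
      obtain ⟨r, hr, hs⟩ := hR (φ t)
      exact Opens.mem_iSup.2 ⟨⟨r, hr⟩, hs⟩
    have hlift : ∀ r, ∃ g : (Tp r).toScheme ⟶ St r, g ≫ e r = (Tp r).ι ≫ φ := fun r => by
      refine (hfac r _).2 fun m => (RankLocusLib.isFinLocFreeOfRank_pullback_iff (E m) _).2 fun x => ?_
      obtain ⟨V, k, hV, hVf⟩ := h m x.1
      have hA : RankLocusLib.FreeAlong k (E m) (V.ι ≫ φ) :=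
        (RankLocusLib.freeAlong_pullback_iff φ V.ι).1 ((RankLocusLib.freeAlong_restrict_iff _ V).2 hVf)
      have hk : k = r.1 m := (rkAt_of_freeAlong (E m) (hft m) φ hA hV).symm.trans (x.2 m)
      subst hk
      refine ⟨(Tp r).ι ⁻¹ᵁ V, hV, ?_⟩
      rw [← morphismRestrict_ι_assoc]
      exact RankLocusLib.freeAlong_comp hA _
    choose g hg using hlift
    let 𝒰 : T.OpenCover := T.openCoverOfIsOpenCover Tp hcov
    refine ⟨𝒰.glueMorphisms (fun r => g r ≫ Sigma.ι St r) fun r r' => ?_, 𝒰.hom_ext _ _ fun r => ?_⟩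
    · by_cases hrr : r = r'
      · subst hrr
        rw [← cancel_mono (𝒰.f r) |>.1 (pullback.condition (f := 𝒰.f r) (g := 𝒰.f r))]
      · haveI : IsEmpty ↥(pullback (𝒰.f r) (𝒰.f r')) := ⟨fun z => hrr (Subtype.ext (funext fun m => by
          have h1 : (Tp r).ι (pullback.fst (𝒰.f r) (𝒰.f r') z) = (Tp r').ι (pullback.snd (𝒰.f r) (𝒰.f r') z) :=
            congrArg (fun f : pullback (𝒰.f r) (𝒰.f r') ⟶ T => f z) pullback.condition
          have h2 := (pullback.fst (𝒰.f r) (𝒰.f r') z).2 m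
          have h3 := (pullback.snd (𝒰.f r) (𝒰.f r') z).2 m
          exact h2.symm.trans ((congrArg (fun p => rkAt (E m) (φ p)) h1).trans h3)))⟩
        exact isInitialOfIsEmpty.hom_ext _ _
    · rw [Scheme.Cover.ι_glueMorphisms_assoc, Category.assoc, Sigma.ι_desc]
      exact hg r
  · rintro ⟨g, rfl⟩ m t
    obtain ⟨r, y, hy⟩ := (sigmaOpenCover St).exists_eq (g t)
    let V : T.Opens := g ⁻¹ᵁ (Sigma.ι St r).opensRange
    have hVr : Set.range (V.ι ≫ g) ⊆ Set.range (Sigma.ι St r) := by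
      rintro _ ⟨x, rfl⟩
      exact x.2
    have hf : ∃ g' : V.toScheme ⟶ St r, g' ≫ e r = V.ι ≫ g ≫ Sigma.desc e :=
      ⟨IsOpenImmersion.lift (Sigma.ι St r) (V.ι ≫ g) hVr, by
        rw [← Sigma.ι_desc e r, ← Category.assoc, IsOpenImmersion.lift_fac, Category.assoc]⟩
    have hVt : t ∈ V := ⟨y, hy⟩
    obtain ⟨O, hO, hfree⟩ := (RankLocusLib.isFinLocFreeOfRank_pullback_iff (E m) _).1 ((hfac r _).1 hf m) ⟨t, hVt⟩
    refine ⟨V.ι ''ᵁ O, r.1 m, ⟨⟨t, hVt⟩, hO, rfl⟩, ?_⟩
    rw [← RankLocusLib.freeAlong_restrict_iff, RankLocusLib.freeAlong_pullback_iff]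
    have hr : Set.range (V.ι ''ᵁ O).ι ⊆ Set.range (O.ι ≫ V.ι) := by
      rintro _ ⟨⟨_, y, hy, rfl⟩, rfl⟩
      exact ⟨⟨y, hy⟩, rfl⟩
    rw [← IsOpenImmersion.lift_fac (O.ι ≫ V.ι) (V.ι ''ᵁ O).ι hr, Category.assoc, Category.assoc]
    exact RankLocusLib.freeAlong_comp hfree _

end StratLib
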