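import Groth.Agent.StratLib.Model
import Groth.Agent.FlatLib.GenericFree

/-!
# Generic freeness of the sections on the coordinate opens
-/

set_option autoImplicit false

universe u

open CategoryTheory AlgebraicGeometry TopologicalSpace TensorProduct GradedCechLib

noncomputable section

namespace StratLib

/-- Generic freeness of a finite module over an algebra of finite type, modulo a prime of the base. -/
theorem exists_free_away {R : Type u} [CommRing R] (S M : Type u) [CommRing S] [Algebra R S] [Algebra.FiniteType R S]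
    [AddCommGroup M] [Module S M] [Module R M] [IsScalarTower R S M] [Module.Finite S M] (p : Ideal R) (hp : p.IsPrime) :
    ∃ f : R ⧸ p, f ≠ 0 ∧ Module.Free (Localization.Away f) (Localization.Away f ⊗[R] M) := by
  haveI := hp
  let J : Ideal S := p.map (algebraMap R S)
  let S' := S ⧸ J
  let M' := M ⧸ J • (⊤ : Submodule S M)
  let π : (R ⧸ p) →+* S' := Ideal.quotientMap J (algebraMap R S) Ideal.le_comap_map
  letI : Algebra (R ⧸ p) S' := π.toAlgebra
  haveI : IsScalarTower R (R ⧸ p) S' := IsScalarTower.of_algebraMap_eq fun r => rfl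
  haveI : Algebra.FiniteType R S' := Algebra.FiniteType.of_surjective (Ideal.Quotient.mkₐ R J) Ideal.Quotient.mk_surjective
  haveI : Algebra.FiniteType (R ⧸ p) S' := Algebra.FiniteType.of_restrictScalars_finiteType R (R ⧸ p) S'
  letI : Module (R ⧸ p) M' := Module.compHom M' π
  haveI : IsScalarTower (R ⧸ p) S' M' := IsScalarTower.of_algebraMap_smul fun _ _ => rfl
  haveI : Module.Finite S M' := Module.Finite.of_surjective (J • (⊤ : Submodule S M)).mkQ (Submodule.mkQ_surjective _)
  haveI : Module.Finite S' M' := Module.Finite.of_restrictScalars_finite S S' M'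
  obtain ⟨f, hf, hfree⟩ := FlatLib.gfree_of_finite (R := R ⧸ p) S' M'
  refine ⟨f, hf, ?_⟩
  haveI : IsScalarTower R (R ⧸ p) M' := IsScalarTower.of_algebraMap_smul fun r x => by
    induction x using Submodule.Quotient.induction_on with | _ x =>
    show Submodule.Quotient.mk (algebraMap R S r • x) = Submodule.Quotient.mk (r • x)
    rw [algebraMap_smul]
  let e : (R ⧸ p) ⊗[R] M ≃ₗ[R] M' :=
    TensorProduct.quotTensorEquivQuotSMul M p ≪≫ₗ
      Submodule.quotEquivOfEq _ ((J • (⊤ : Submodule S M)).restrictScalars R) (by rw [Ideal.smul_restrictScalars, Submodule.restrictScalars_top]) ≪≫ₗ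
        Submodule.Quotient.restrictScalarsEquiv R (J • (⊤ : Submodule S M))
  let e' : (R ⧸ p) ⊗[R] M ≃ₗ[R ⧸ p] M' :=
    LinearEquiv.extendScalarsOfSurjective (R := R) (S := R ⧸ p) Ideal.Quotient.mk_surjective e
  exact Module.Free.of_equiv ((AlgebraTensorModule.congr (LinearEquiv.refl _ _) e'.symm).trans
    (AlgebraTensorModule.cancelBaseChange R (R ⧸ p) (Localization.Away f) (Localization.Away f) M))

variable {n : ℕ} {R : Type u} [CommRing R]

theorem isAffineOpen_Uof (s : Finset (Fin (n + 1))) (hs : s.Nonempty) :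
    IsAffineOpen (Uof s : (CohB1.ProjSpace n R).Opens) := by
  rw [PnTildeLib.basicOpen_xs]
  exact Proj.isAffineOpen_basicOpen _ _ (PnTildeLib.xs_mem s) hs.card_pos

/-- Generic freeness for the sections of a coherent module on the coordinate opens. -/
theorem exists_free_sections (F : (CohB1.ProjSpace n R).Modules) (hF : Coh.IsQCoh F) (hft : CohB1.IsFT F)
    [LocallyOfFiniteType (CohB1.ProjSpace.toSpec n R)] (p : Ideal R) (hp : p.IsPrime)
    (s : Finset (Fin (n + 1))) (hs : s.Nonempty) :
    ∃ f : R ⧸ p, f ≠ 0 ∧ Module.Free (Localization.Away f) (Localization.Away f ⊗[R] SecR F (Uof s)) := by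
  haveI := hF
  let U : (CohB1.ProjSpace n R).Opens := Uof s
  have hU := isAffineOpen_Uof (R := R) s hs
  letI : Algebra R Γ(CohB1.ProjSpace n R, U) := (cstOn n R U).toAlgebra
  haveI : Algebra.FiniteType R Γ(CohB1.ProjSpace n R, U) := by
    have h1 := (CohB1.ProjSpace.toSpec n R).finiteType_appLE (isAffineOpen_top _) hU (fun _ _ => trivial)
    have h2 := RingHom.FiniteType.comp h1
      (RingHom.FiniteType.of_surjective (Scheme.ΓSpecIso (CommRingCat.of R)).inv.hom
        ((ConcreteCategory.bijective_of_isIso (Scheme.ΓSpecIso (CommRingCat.of R)).inv).2))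
    exact h2
  haveI : Module.Finite Γ(CohB1.ProjSpace n R, U) Γ(F, U) := QCohLib.finite_of_isFT hft hU
  letI : Module Γ(CohB1.ProjSpace n R, U) (SecR F U) := inferInstanceAs (Module _ Γ(F, U))
  haveI : IsScalarTower R Γ(CohB1.ProjSpace n R, U) (SecR F U) := IsScalarTower.of_algebraMap_smul fun _ _ => rfl
  haveI : Module.Finite Γ(CohB1.ProjSpace n R, U) (SecR F U) := ‹Module.Finite Γ(CohB1.ProjSpace n R, U) Γ(F, U)›
  exact exists_free_away Γ(CohB1.ProjSpace n R, U) (SecR F U) p hp

end StratLib
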