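import Groth.Agent.StratLib.Sec0
import Groth.Agent.StratLib.GenFree
import Groth.Agent.CohBCLib.BC
import Groth.Agent.GradedCechLib.Compare

/-!
# Cohomology of a fibre from the exact complex
-/

set_option autoImplicit false
set_option maxHeartbeats 1000000

universe u

open CategoryTheory CategoryTheory.Limits AlgebraicGeometry TopologicalSpace Opposite TensorProduct GradedCechLib

noncomputable section

namespace StratLib

variable {n : ℕ} {A : Type u} [CommRing A]

/-- Cochains of the system as cochains over the base. -/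
def cochainA (M : (CohB1.ProjSpace n A).Modules) (p : ℕ) :
    Yc (secSys M) (p + 1) ≃ₗ[A] CohBCLib.CochA (CohB1.ProjSpace.toSpec n A) (stdCover n A) M p :=
  { cochainCompare M p with
    map_smul' := fun r c => funext fun J => by
      show rsV M (cap_eq_Uof J).le (r • c (downT J)) =
        (CohBCLib.secA (CohB1.ProjSpace.toSpec n A) (CohBCLib.capX (stdCover n A) J) r) •
          (show Γ(M, CohBCLib.capX (stdCover n A) J) from rsV M (cap_eq_Uof J).le (c (downT J)))
      rw [rsV_smul]
      rfl }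

theorem cochainA_dd (M : (CohB1.ProjSpace n A).Modules) (p : ℕ) (c : Yc (secSys M) (p + 1)) :
    cochainA M (p + 1) (dY (secSys M) (p + 1) c) =
      CohBCLib.ddA (CohB1.ProjSpace.toSpec n A) (stdCover n A) M p (cochainA M p c) :=
  (cochainCompare_dd M p c).trans (CohBCLib.ddA_eq _ _ M p _).symm

theorem haff_stdCover (p : ℕ) (J : Fin (p + 1) → ULift.{u} (Fin (n + 1))) :
    IsAffineOpen (CohBCLib.capX (stdCover n A) J) := by
  show IsAffineOpen (CechLib.cap (stdCover n A) J)
  rw [cap_eq_Uof]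
  exact isAffineOpen_Uof _ (rng_nonempty _)

theorem hcov_stdCover : (⨆ i, stdCover n A i) = ⊤ := by
  rw [eq_top_iff, ← QCohLib.iSup_stdOpen n A]
  exact iSup_le fun i => le_iSup (stdCover n A) ⟨i⟩

/-- The zeroth homology of a cochain complex is the kernel of the first differential. -/
theorem nonempty_h0_equiv {K : Type u} [CommRing K] (C : CochainComplex (ModuleCat.{u} K) ℕ) :
    Nonempty (C.homology 0 ≃ₗ[K] LinearMap.ker (C.d 0 1).hom) := by
  haveI : IsIso (C.homologyπ 0) := C.isIso_homologyπ 0 0 (by simp) (C.shape 0 0 (by simp))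
  let ι₀ : C.cycles 0 →ₗ[K] C.X 0 := (C.iCycles 0).hom
  have hmem : ∀ z, ι₀ z ∈ LinearMap.ker (C.d 0 1).hom := fun z =>
    LinearMap.mem_ker.2 (congrArg (fun f : C.cycles 0 ⟶ C.X 1 => f.hom z) (C.iCycles_d 0 1))
  refine ⟨(asIso (C.homologyπ 0)).toLinearEquiv.symm ≪≫ₗ
    LinearEquiv.ofBijective (ι₀.codRestrict _ hmem) ⟨fun a b h => ?_, fun c => ?_⟩⟩
  · exact (ModuleCat.mono_iff_injective (C.iCycles 0)).1 inferInstance (congrArg Subtype.val h)
  · have hc : (ModuleCat.ofHom (LinearMap.toSpanSingleton K (C.X 0) c.1) : ModuleCat.of K K ⟶ C.X 0) ≫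
        C.d 0 1 = 0 :=
      ModuleCat.hom_ext (LinearMap.ext_ring ((congrArg (C.d 0 1).hom
        (LinearMap.toSpanSingleton_apply_one K _ c.1)).trans c.2))
    refine ⟨(C.liftCycles _ 1 (by simp) hc).hom 1, Subtype.ext ?_⟩
    exact (congrArg (fun f : ModuleCat.of K K ⟶ C.X 0 => f.hom 1) (C.liftCycles_i _ 1 (by simp) hc)).trans
      (LinearMap.toSpanSingleton_apply_one K _ c.1)

/-- **Cohomology after base change to a field**, from exactness with coefficients in it. -/
theorem finrank_HH_of_exT (M : (CohB1.ProjSpace n A).Modules) [Coh.IsQCoh M] (L : Sys A (Fin (n + 1)))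
    (φ : L ⟶ secSys M) (hφ : ∀ s : Finset (Fin (n + 1)), s.Nonempty → Function.Bijective (φ.app s).hom)
    {K : Type u} [Field K] [Algebra A K] (hex : ExT (fun j => YK L j) (dK L) K)
    {X' : Scheme.{u}} {g' : X' ⟶ CohB1.ProjSpace n A} {f' : X' ⟶ Spec (CommRingCat.of K)}
    (H : IsPullback g' f' (CohB1.ProjSpace.toSpec n A) (Spec.map (CommRingCat.ofHom (algebraMap A K)))) :
    letI : X'.Over (Spec (CommRingCat.of K)) := ⟨f'⟩
    Module.finrank K (Coh.HH X' ((Scheme.Modules.pullback g').obj M) 0) = Module.finrank K (K ⊗[A] YK L 0) ∧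
      ∀ p, Subsingleton (Coh.HH X' ((Scheme.Modules.pullback g').obj M) (p + 1)) := by
  letI : X'.Over (Spec (CommRingCat.of K)) := ⟨f'⟩
  let f := CohB1.ProjSpace.toSpec n A
  let e : ∀ p, Yc L (p + 1) ≃ₗ[A] CohBCLib.CochA f (stdCover n A) M p := fun p =>
    LinearEquiv.ofBijective (mapY φ (p + 1))
      ⟨fun c c' h => funext fun J => (hφ _ (rng_nonempty J)).1 (congrFun h J), fun c => by
        choose b hb using fun J => (hφ _ (rng_nonempty J)).2 (c J)
        exact ⟨b, funext hb⟩⟩ ≪≫ₗ cochainA M p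
  have he : ∀ p c, e (p + 1) (dY L (p + 1) c) = CohBCLib.ddA f (stdCover n A) M p (e p c) := fun p c =>
    (congrArg (cochainA M (p + 1)) (mapY_dY φ (p + 1) c)).trans (cochainA_dd M p _)
  let C := CohIII.bcCx (algebraMap A K) ((CohBCLib.cechA f (stdCover n A)).obj M)
  let ξ : ∀ p, C.X p ≃ₗ[K] K ⊗[A] Yc L (p + 1) := fun p =>
    (FlatCxLib.extEquiv (ModuleCat.of A (CohBCLib.CochA f (stdCover n A) M p))).trans
      (AlgebraTensorModule.congr (LinearEquiv.refl K K) (e p).symm)
  have hξ : ∀ p x, ξ (p + 1) ((C.d p (p + 1)).hom x) = (dY L (p + 1)).baseChange K (ξ p x) := fun p x => by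
    have hd : ((CohBCLib.cechA f (stdCover n A)).obj M).d p (p + 1) =
        ModuleCat.ofHom (CohBCLib.ddA f (stdCover n A) M p) :=
      CohBCLib.cechA_d f (stdCover n A) M p
    have h1 : FlatCxLib.extEquiv (ModuleCat.of A (CohBCLib.CochA f (stdCover n A) M (p + 1))) ((C.d p (p + 1)).hom x) =
        (CohBCLib.ddA f (stdCover n A) M p).baseChange K
          (FlatCxLib.extEquiv (ModuleCat.of A (CohBCLib.CochA f (stdCover n A) M p)) x) := by
      refine (FlatCxLib.extEquiv_map (((CohBCLib.cechA f (stdCover n A)).obj M).d p (p + 1)) x).trans ?_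
      exact congrArg (fun d => LinearMap.baseChange K d (FlatCxLib.extEquiv (ModuleCat.of A (CohBCLib.CochA f (stdCover n A) M p)) x))
        (congrArg ModuleCat.Hom.hom hd)
    have key : ∀ z : K ⊗[A] CohBCLib.CochA f (stdCover n A) M p,
        AlgebraTensorModule.congr (LinearEquiv.refl K K) (e (p + 1)).symm
          ((CohBCLib.ddA f (stdCover n A) M p).baseChange K z) =
        (dY L (p + 1)).baseChange K (AlgebraTensorModule.congr (LinearEquiv.refl K K) (e p).symm z) := fun z => by
      induction z with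
      | zero => simp only [map_zero]
      | add x y hx hy => simp only [map_add, hx, hy]
      | tmul a c =>
        simp only [LinearMap.baseChange_tmul, AlgebraTensorModule.congr_tmul, LinearEquiv.refl_apply]
        congr 1
        exact (e (p + 1)).injective (by rw [LinearEquiv.apply_symm_apply, he, LinearEquiv.apply_symm_apply])
    exact (congrArg (AlgebraTensorModule.congr (LinearEquiv.refl K K) (e (p + 1)).symm) h1).trans (key _)
  have hxY : ∀ p, Function.Exact ((dK L p).baseChange K) ((dK L (p + 1)).baseChange K) := fun p => hex.2 p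
  have hex' : ∀ p, C.ExactAt (p + 1) := fun p => by
    rw [HomologicalComplex.exactAt_iff' _ p (p + 1) (p + 1 + 1) (by simp) (by simp), ShortComplex.moduleCat_exact_iff]
    intro x hx
    obtain ⟨z, hz⟩ := (hxY (p + 1) (ξ (p + 1) x)).1 ((hξ (p + 1) x).symm.trans ((congrArg _ hx).trans (map_zero _)))
    obtain ⟨z, rfl⟩ := (ξ p).surjective z
    exact ⟨z, (ξ (p + 1)).injective ((hξ p z).trans hz)⟩
  let Φ : ∀ p, C.homology p ≅ (CohBCLib.HA f' p).obj ((Scheme.Modules.pullback g').obj M) := fun p =>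
    CohBCLib.bcHIso H (stdCover n A) haff_stdCover M hcov_stdCover p
  let Ψ : ∀ p, ((CohBCLib.HA f' p).obj ((Scheme.Modules.pullback g').obj M) : Type u) ≃ₗ[K]
      Coh.HH X' ((Scheme.Modules.pullback g').obj M) p := fun p =>
    { AddEquiv.refl (Coh.HH X' ((Scheme.Modules.pullback g').obj M) p) with map_smul' := fun _ _ => rfl }
  refine ⟨?_, fun p => ?_⟩
  · obtain ⟨h0⟩ := nonempty_h0_equiv C
    rw [← ((Φ 0).toLinearEquiv.trans (Ψ 0)).finrank_eq, h0.finrank_eq]
    let ι₀ : K ⊗[A] YK L 0 →ₗ[K] C.X 0 := (ξ 0).symm.toLinearMap.comp ((dK L 0).baseChange K)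
    have hmem : ∀ z, ι₀ z ∈ LinearMap.ker (C.d 0 1).hom := fun z => LinearMap.mem_ker.2 ((ξ 1).injective (by
      rw [hξ, map_zero]
      show (dY L 1).baseChange K (ξ 0 ((ξ 0).symm ((dK L 0).baseChange K z))) = 0
      rw [LinearEquiv.apply_symm_apply]
      exact (hxY 0 _).2 ⟨z, rfl⟩))
    refine (LinearEquiv.ofBijective (ι₀.codRestrict _ hmem) ⟨fun a b h => ?_, fun c => ?_⟩).finrank_eq.symm
    · exact hex.1 ((ξ 0).symm.injective (congrArg Subtype.val h))
    · obtain ⟨z, hz⟩ := (hxY 0 (ξ 0 c.1)).1 ((hξ 0 c.1).symm.trans ((congrArg _ c.2).trans (map_zero _)))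
      exact ⟨z, Subtype.ext ((LinearEquiv.symm_apply_eq (ξ 0)).2 hz)⟩
  · haveI := ModuleCat.subsingleton_of_isZero ((hex' p).isZero_homology.of_iso (Φ (p + 1)).symm)
    exact (Ψ (p + 1)).symm.injective.subsingleton

/-- Dimensions of cohomology over a field only depend on the module up to isomorphism. -/
theorem nonempty_HH_congr {K : Type u} [Field K] {X' : Scheme.{u}} (f' : X' ⟶ Spec (CommRingCat.of K))
    {M M' : X'.Modules} (e : M ≅ M') (p : ℕ) :
    letI : X'.Over (Spec (CommRingCat.of K)) := ⟨f'⟩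
    Nonempty (Coh.HH X' M p ≃ₗ[K] Coh.HH X' M' p) := by
  letI : X'.Over (Spec (CommRingCat.of K)) := ⟨f'⟩
  let E := ((CohBCLib.HA f' p).mapIso e).toLinearEquiv
  exact ⟨{ E.toAddEquiv with map_smul' := fun r x => E.map_smul r x }⟩

end StratLib
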