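import Groth.Agent.StratLib.Euler

/-!
# The flattening stratification indexed by Hilbert polynomials
-/

set_option autoImplicit false
set_option maxHeartbeats 1000000

universe u

open CategoryTheory CategoryTheory.Limits AlgebraicGeometry TopologicalSpace Opposite

noncomputable section

namespace StratLib

theorem eqToHom_comp_of_eq {J : Type*} {C : Type*} [Category C] {Y : C} {X : J → C} (e : ∀ j, X j ⟶ Y) {a b : J} (h : a = b) :
    eqToHom (congrArg X h) ≫ e b = e a := by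
  subst h
  simp

theorem eq_of_eval_shift {p q : Polynomial ℚ} (N : ℕ)
    (h : ∀ m : ℕ, p.eval ((N + m : ℕ) : ℚ) = q.eval ((N + m : ℕ) : ℚ)) : p = q :=
  Polynomial.eq_of_infinite_eval_eq p q ((Set.infinite_range_of_injective
    (fun a b hab => Nat.add_left_cancel (Nat.cast_injective (R := ℚ) hab) :
      Function.Injective fun m : ℕ => ((N + m : ℕ) : ℚ))).mono (by rintro _ ⟨m, rfl⟩; exact h m))

theorem eq_of_eval_int {p q : Polynomial ℚ} (h : ∀ m : ℤ, p.eval (m : ℚ) = q.eval (m : ℚ)) : p = q :=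
  eq_of_eval_shift 0 fun m => by simpa using h (m : ℤ)

variable {n : ℕ} {S : Scheme.{u}} [AlgebraicGeometry.IsNoetherian S] (F : (CohB1.ProjSpaceOver n S).Modules) (hF : Coh.IsCoh F)

include hF in
/-- **The flattening stratification**, indexed by the Hilbert polynomials of the fibres. -/
theorem exists_hilb :
    ∃ (I : Finset (Polynomial ℚ)) (St : ↥I → Scheme.{u}) (e : ∀ P : ↥I, St P ⟶ S),
      (∀ P, IsImmersion (e P)) ∧
      (∀ (P : ↥I) (s : (Over.mk (𝟙 S)).left), s ∈ Set.range (e P) ↔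
        ∀ m : ℤ, (chi F s m : ℚ) = (P : Polynomial ℚ).eval (m : ℚ)) ∧
      (∀ s : (Over.mk (𝟙 S)).left, ∃ P ∈ I, ∀ m : ℤ, (chi F s m : ℚ) = P.eval (m : ℚ)) ∧
      (∀ (T : Scheme.{u}) [IsLocallyNoetherian T] (φ : T ⟶ S),
        FlatMod.IsFlatOver (CohB1.ProjSpaceOver.toBase n T) ((Scheme.Modules.pullback (FGA.projMap n φ)).obj F) ↔
          ∃ g : T ⟶ ∐ St, g ≫ Limits.Sigma.desc e = φ) ∧
      (∀ P : ↥I, closure (Set.range (e P)) ⊆
          ⋃ Q ∈ {Q : ↥I | ∃ m₀ : ℤ, ∀ m : ℤ, m₀ ≤ m →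
              (P : Polynomial ℚ).eval (m : ℚ) ≤ (Q : Polynomial ℚ).eval (m : ℚ)},
            Set.range (e Q)) := by
  classical
  obtain ⟨N, R, St, e, he, hrange, hall, hfib, hflat⟩ := exists_flattening F hF
  choose P hP using exists_chi_poly F hF
  have key : ∀ (s : (Over.mk (𝟙 S)).left) (m : ℕ),
      (P s).eval ((N + m : ℕ) : ℚ) = (rkAt (imF F ((N + m : ℕ) : ℤ)) s : ℚ) := fun s m => by
    obtain ⟨h0, hp⟩ := hfib s m (isPullback_fibreHom s)
    obtain ⟨e1⟩ := nonempty_fibre_iso F s ((N + m : ℕ) : ℤ)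
    have hz : chi F s ((N + m : ℕ) : ℤ) = (rkAt (imF F ((N + m : ℕ) : ℤ)) s : ℤ) := by
      letI : (FGA.fibreAt (CohB1.ProjSpaceOver.toBase n S) (Over.mk (𝟙 S)) s).left.Over
          (Spec (CommRingCat.of (S.residueField s))) := ⟨(FGA.fibreAt _ (Over.mk (𝟙 S)) s).hom⟩
      rw [chi, FGA.eulerCharLE, Finset.sum_eq_single 0]
      · rw [pow_zero, one_mul, ← h0]
        exact congrArg Nat.cast (nonempty_HH_congr (K := S.residueField s) (FGA.fibreAt _ (Over.mk (𝟙 S)) s).hom e1 0).some.finrank_eq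
      · intro i _ hi
        obtain ⟨i, rfl⟩ := Nat.exists_eq_succ_of_ne_zero hi
        have h2 := (nonempty_HH_congr (K := S.residueField s) (FGA.fibreAt _ (Over.mk (𝟙 S)) s).hom e1 (i + 1)).some
        haveI := hp i
        haveI := h2.toEquiv.subsingleton
        rw [Module.finrank_zero_of_subsingleton]
        simp
      · simp
    have h3 := hP s ((N + m : ℕ) : ℤ)
    rw [hz] at h3
    simpa using h3.symm
  have hρ' : ∀ s : S, ∃ r : ↥R, ∀ m : ℕ, rkAt (imF F ((N + m : ℕ) : ℤ)) s = r.1 m := fun s => by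
    obtain ⟨r, hr, h⟩ := hall s
    exact ⟨⟨r, hr⟩, h⟩
  choose ρ hρ using hρ'
  have hρP : ∀ s t : (Over.mk (𝟙 S)).left, ρ s = ρ t ↔ P s = P t := fun s t => by
    constructor
    · intro h
      exact eq_of_eval_shift N fun m => by rw [key, key, hρ s m, hρ t m, h]
    · intro h
      refine Subtype.ext (funext fun m => ?_)
      have h1 := key s m
      rw [h, key, hρ s m, hρ t m] at h1
      exact_mod_cast h1.symm
  have hfin : (Set.range P).Finite := by
    rw [← Set.finite_coe_iff]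
    refine Finite.of_surjective (fun r : Set.range ρ => (⟨P r.2.choose, Set.mem_range_self _⟩ : Set.range P)) ?_
    rintro ⟨_, s, rfl⟩
    exact ⟨⟨ρ s, s, rfl⟩, Subtype.ext ((hρP _ _).1 (Exists.choose_spec (⟨s, rfl⟩ : ρ s ∈ Set.range ρ)))⟩
  have hI : ∀ s, P s ∈ hfin.toFinset := fun s => hfin.mem_toFinset.2 ⟨s, rfl⟩
  choose pt hpt using fun p : ↥hfin.toFinset => hfin.mem_toFinset.1 p.2
  have hrange' : ∀ (p : ↥hfin.toFinset) (s : (Over.mk (𝟙 S)).left),
      s ∈ Set.range (e (ρ (pt p))) ↔ P s = p.1 := fun p s => by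
    rw [← hpt p, ← hρP]
    refine (hrange _ _).trans ⟨fun h => Subtype.ext (funext fun m => (hρ s m).symm.trans (h m)), fun h m => ?_⟩
    rw [← h]
    exact hρ s m
  refine ⟨hfin.toFinset, fun p => St (ρ (pt p)), fun p => e (ρ (pt p)), fun p => he _, fun p s => ?_,
    fun s => ⟨P s, hI s, hP s⟩, fun T _ φ => ?_, fun p s' hs' => ?_⟩
  · rw [hrange']
    exact ⟨fun h m => by rw [hP, h], fun h => eq_of_eval_int fun m => by rw [← hP, h]⟩
  · rw [hflat T φ]
    constructor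
    · rintro ⟨g, rfl⟩
      have hc : ∀ r : ↥R, (∃ s, ρ s = r) ∨ IsEmpty (St r) := fun r => by
        by_cases h : IsEmpty (St r)
        · exact Or.inr h
        · obtain ⟨x⟩ := not_isEmpty_iff.1 h
          exact Or.inl ⟨e r x, Subtype.ext (funext fun m => (hρ _ m).symm.trans ((hrange r _).1 ⟨x, rfl⟩ m))⟩
      have hj : ∀ r : ↥R, ∃ j : St r ⟶ ∐ fun p => St (ρ (pt p)),
          j ≫ Limits.Sigma.desc (fun p => e (ρ (pt p))) = e r := fun r => by
        rcases hc r with ⟨s, rfl⟩ | h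
        · have h1 : ρ s = ρ (pt ⟨P s, hI s⟩) := (hρP _ _).2 (hpt ⟨P s, hI s⟩).symm
          refine ⟨eqToHom (congrArg St h1) ≫ Limits.Sigma.ι (fun p => St (ρ (pt p))) ⟨P s, hI s⟩, ?_⟩
          rw [Category.assoc, Limits.Sigma.ι_desc]
          exact eqToHom_comp_of_eq e h1
        · haveI := h
          exact ⟨(isInitialOfIsEmpty (X := St r)).to _, (isInitialOfIsEmpty (X := St r)).hom_ext _ _⟩
      choose j hj using hj
      refine ⟨g ≫ Limits.Sigma.desc j, ?_⟩
      rw [Category.assoc]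
      congr 1
      exact Limits.Sigma.hom_ext _ _ fun r => by rw [Limits.Sigma.ι_desc_assoc, Limits.Sigma.ι_desc, hj]
    · rintro ⟨g, rfl⟩
      refine ⟨g ≫ Limits.Sigma.desc (fun p => Limits.Sigma.ι St (ρ (pt p))), ?_⟩
      rw [Category.assoc]
      congr 1
      exact Limits.Sigma.hom_ext _ _ fun r => by rw [Limits.Sigma.ι_desc_assoc, Limits.Sigma.ι_desc, Limits.Sigma.ι_desc]
  · refine Set.mem_iUnion₂.2 ⟨⟨P s', hI s'⟩, ⟨(N : ℤ), fun m hm => ?_⟩, (hrange' ⟨P s', hI s'⟩ s').2 rfl⟩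
    obtain ⟨k, rfl⟩ := Int.eq_ofNat_of_zero_le ((Int.natCast_nonneg N).trans hm)
    obtain ⟨j, rfl⟩ := Nat.exists_eq_add_of_le (Int.ofNat_le.1 hm)
    haveI := isQCoh_imF F hF ((N + j : ℕ) : ℤ)
    have hsub : Set.range (e (ρ (pt p))) ⊆
        ((low (imF F ((N + j : ℕ) : ℤ)) ((ρ (pt p)).1 j)).support : Set S) := fun s hs =>
      (mem_support_low_iff _ (isFT_imF F hF (N + j)) s _).2 ((hrange _ _).1 hs j).ge
    have h := (mem_support_low_iff _ (isFT_imF F hF (N + j)) s' _).1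
      (closure_minimal hsub (Scheme.IdealSheafData.support _).isClosed hs')
    simp only [Int.cast_natCast]
    change p.1.eval _ ≤ (P s').eval _
    rw [← hpt p, key, key, hρ (pt p) j]
    exact_mod_cast h

end StratLib
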