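import Groth.Agent.StratLib.Strata
import Groth.Agent.ConsLib.ModLoci

/-!
# The flattening stratification of a coherent module on projective space
-/

set_option autoImplicit false

universe u

open CategoryTheory CategoryTheory.Limits AlgebraicGeometry TopologicalSpace Opposite

noncomputable section

namespace StratLib

variable {n : ℕ} {S : Scheme.{u}} [IsNoetherian S] (F : (CohB1.ProjSpaceOver n S).Modules) (hF : Coh.IsCoh F)

include hF in
/-- **The flattening stratification**, indexed by the rank functions of the direct images of the twists. -/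
theorem exists_flattening :
    ∃ (N : ℕ) (R : Finset (ℕ → ℕ)) (St : ↥R → Scheme.{u}) (e : ∀ r : ↥R, St r ⟶ S),
      (∀ r, IsImmersion (e r)) ∧
      (∀ (r : ↥R) (s : S), s ∈ Set.range (e r) ↔ ∀ m : ℕ, rkAt (imF F ((N + m : ℕ) : ℤ)) s = r.1 m) ∧
      (∀ s : S, ∃ r ∈ R, ∀ m : ℕ, rkAt (imF F ((N + m : ℕ) : ℤ)) s = r m) ∧
      (∀ (s : S) (m : ℕ) {X' : Scheme.{u}} {g' : X' ⟶ CohB1.ProjSpaceOver n S} {f' : X' ⟶ Spec (S.residueField s)},
        IsPullback g' f' (CohB1.ProjSpaceOver.toBase n S) (S.fromSpecResidueField s) →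
        letI : X'.Over (Spec (CommRingCat.of (S.residueField s))) := ⟨f'⟩
        Module.finrank (S.residueField s) (Coh.HH X' ((Scheme.Modules.pullback g').obj (twF F ((N + m : ℕ) : ℤ))) 0) =
            rkAt (imF F ((N + m : ℕ) : ℤ)) s ∧
          ∀ p, Subsingleton (Coh.HH X' ((Scheme.Modules.pullback g').obj (twF F ((N + m : ℕ) : ℤ))) (p + 1))) ∧
      ∀ (T : Scheme.{u}) [IsLocallyNoetherian T] (φ : T ⟶ S),
        FlatMod.IsFlatOver (CohB1.ProjSpaceOver.toBase n T) ((Scheme.Modules.pullback (FGA.projMap n φ)).obj F) ↔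
          ∃ g : T ⟶ ∐ St, g ≫ Limits.Sigma.desc e = φ := by
  classical
  choose W hW hxW using fun s : S => (exists_isAffineOpen_mem_and_subset (X := S) (x := s) (U := ⊤) trivial :
    ∃ W : S.Opens, IsAffineOpen W ∧ s ∈ W ∧ _).imp fun W h => (⟨h.1, h.2.1⟩ : IsAffineOpen W ∧ s ∈ W)
  obtain ⟨c, hc⟩ := (isCompact_univ (X := S)).elim_finite_subcover (fun s => (W s : Set S)) (fun s => (W s).2)
    fun s _ => Set.mem_iUnion.2 ⟨s, hxW s⟩
  choose N₀ hR hH hB using fun s : S => exists_local_bound F hF (hW s)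
  choose R hR using hR
  let N := c.sup N₀
  let Rall : Finset (ℕ → ℕ) := c.biUnion fun s => (R s).image fun r m => r (N + m)
  let E : ℕ → S.Modules := fun m => imF F ((N + m : ℕ) : ℤ)
  have hall : ∀ s : S, ∃ r ∈ Rall, ∀ m : ℕ, rkAt (E m) s = r m := fun s => by
    obtain ⟨s₀, hs₀, hs⟩ := Set.mem_iUnion₂.1 (hc (Set.mem_univ s))
    obtain ⟨r, hr, hr'⟩ := hR s₀ s hs
    exact ⟨fun m => r (N + m), Finset.mem_biUnion.2 ⟨s₀, hs₀, Finset.mem_image.2 ⟨r, hr, rfl⟩⟩,
      fun m => hr' _ ((Finset.le_sup hs₀).trans (Nat.le_add_right N m))⟩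
  have hq : ∀ m, Coh.IsQCoh (E m) := fun m => isQCoh_imF F hF _
  obtain ⟨St, e, he, hrange, hfac⟩ := exists_strata E hq (fun m => isFT_imF F hF (N + m)) Rall hall
  refine ⟨N, Rall, St, e, he, hrange, hall, fun s m X' g' f' H => ?_, fun T _ φ => ?_⟩
  · obtain ⟨s₀, hs₀, hs⟩ := Set.mem_iUnion₂.1 (hc (Set.mem_univ s))
    exact hH s₀ s hs (N + m) ((Finset.le_sup hs₀).trans (Nat.le_add_right N m)) H
  rw [← hfac T φ]
  constructor
  · intro hflat m
    haveI := hq m
    haveI : Coh.IsQCoh ((Scheme.Modules.pullback φ).obj (E m)) := KFlatLib.isQCoh_pullback φ _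
    refine isFinLocFree_of_flat_sections _ (ConsLib.isFT_pullback φ _ (isFT_imF F hF (N + m))) fun x => ?_
    obtain ⟨s₀, hs₀, hs⟩ := Set.mem_iUnion₂.1 (hc (Set.mem_univ (φ x)))
    obtain ⟨V, hV, hxV, hVW⟩ := exists_isAffineOpen_mem_and_subset (X := T) (x := x) (U := φ ⁻¹ᵁ W s₀) hs
    exact ⟨V, hV, hxV, (hB s₀ φ hV hVW).1 (fun z _ => hflat z) (N + m)
      ((Finset.le_sup hs₀).trans (Nat.le_add_right N m))⟩
  · intro h z
    obtain ⟨s₀, hs₀, hs⟩ := Set.mem_iUnion₂.1 (hc (Set.mem_univ (φ (CohB1.ProjSpaceOver.toBase n T z))))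
    obtain ⟨V, hV, hxV, hVW⟩ := exists_isAffineOpen_mem_and_subset (X := T)
      (x := CohB1.ProjSpaceOver.toBase n T z) (U := φ ⁻¹ᵁ W s₀) hs
    refine (hB s₀ φ hV hVW).2 N (fun m hm => ?_) z hxV
    obtain ⟨k, rfl⟩ := Nat.exists_eq_add_of_le hm
    exact CohBCLib.flat_sections_of_isFinLocFree _ (h k) hV

end StratLib
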