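import Mathlib

/-!
# Flatness of base changes along an exhaustion
-/

set_option autoImplicit false

universe u

open TensorProduct

noncomputable section

namespace StratLib

variable {A : Type u} [CommRing A]

/-- A module exhausted by modules with flat base change has flat base change. -/
theorem flat_of_exhaust (B : Type u) [CommRing B] [Algebra A B] {P : Type u} [AddCommGroup P] [Module A P]
    (Z : ℕ → Type u) [∀ k, AddCommGroup (Z k)] [∀ k, Module A (Z k)]
    (f : ∀ i j, i ≤ j → Z i →ₗ[A] Z j) [DirectedSystem Z (fun i j h => f i j h)]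
    (ψ : ∀ k, Z k →ₗ[A] P) (hψ : ∀ i j h x, ψ j (f i j h x) = ψ i x)
    (hsurj : ∀ p, ∃ k x, ψ k x = p) (hinj : ∀ k x, ψ k x = 0 → ∃ j h, f k j h x = 0)
    (hflat : ∀ k, Module.Flat B (B ⊗[A] Z k)) : Module.Flat B (B ⊗[A] P) := by
  classical
  let L := Module.DirectLimit.lift A ℕ Z f ψ hψ
  have hL : Function.Bijective L := by
    refine ⟨(injective_iff_map_eq_zero L).2 fun z hz => ?_, fun p => ?_⟩
    · obtain ⟨k, x, rfl⟩ := Module.DirectLimit.exists_of z
      rw [Module.DirectLimit.lift_of] at hz
      obtain ⟨j, h, hj⟩ := hinj k x hz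
      rw [← Module.DirectLimit.of_f (hij := h), hj, map_zero]
    · obtain ⟨k, x, rfl⟩ := hsurj p
      exact ⟨Module.DirectLimit.of A ℕ Z f k x, Module.DirectLimit.lift_of _ _ _⟩
  let D := Module.DirectLimit Z f
  suffices h : Module.Flat B (B ⊗[A] D) from
    Module.Flat.of_linearEquiv (AlgebraTensorModule.congr (LinearEquiv.refl B B) (LinearEquiv.ofBijective L hL)).symm
  rw [Module.Flat.iff_rTensor_preserves_injective_linearMap]
  intro N N' _ _ _ _ φ hφ
  letI : Module A N := Module.compHom N (algebraMap A B)
  haveI : IsScalarTower A B N := IsScalarTower.of_algebraMap_smul fun _ _ => rfl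
  letI : Module A N' := Module.compHom N' (algebraMap A B)
  haveI : IsScalarTower A B N' := IsScalarTower.of_algebraMap_smul fun _ _ => rfl
  let φA : N →ₗ[A] N' := φ.restrictScalars A
  have hcancel : ∀ (Q : Type u) [AddCommGroup Q] [Module A Q] (z : N ⊗[B] (B ⊗[A] Q)),
      AlgebraTensorModule.cancelBaseChange A B B N' Q (φ.rTensor (B ⊗[A] Q) z) =
        φA.rTensor Q (AlgebraTensorModule.cancelBaseChange A B B N Q z) := fun Q _ _ z => by
    induction z with
    | zero => simp
    | add x y hx hy => simp only [map_add, hx, hy]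
    | tmul m w =>
      induction w with
      | zero => simp
      | add x y hx hy => simp only [tmul_add, map_add, hx, hy]
      | tmul b q => simp [φA]
  have hk : ∀ k, Function.Injective (φA.rTensor (Z k)) := fun k a b hab => by
    haveI := hflat k
    obtain ⟨a, rfl⟩ := (AlgebraTensorModule.cancelBaseChange A B B N (Z k)).surjective a
    obtain ⟨b, rfl⟩ := (AlgebraTensorModule.cancelBaseChange A B B N (Z k)).surjective b
    rw [← hcancel, ← hcancel] at hab
    exact congrArg _ (Module.Flat.rTensor_preserves_injective_linearMap φ hφ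
      ((AlgebraTensorModule.cancelBaseChange A B B N' (Z k)).injective hab))
  have hof : ∀ (M : Type u) [AddCommGroup M] [Module A M] (k : ℕ) (x : M ⊗[A] Z k),
      directLimitRight f M ((Module.DirectLimit.of A ℕ Z f k).lTensor M x) =
        Module.DirectLimit.of A ℕ (fun i => M ⊗[A] Z i) _ k x := fun M _ _ k x => by
    induction x with
    | zero => simp
    | add x y hx hy => simp only [map_add, hx, hy]
    | tmul m g => rw [LinearMap.lTensor_tmul, directLimitRight_tmul_of]
  refine (injective_iff_map_eq_zero _).2 fun z hz => ?_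
  have hz' : φA.rTensor D (AlgebraTensorModule.cancelBaseChange A B B N D z) = 0 := by
    rw [← hcancel, hz, map_zero]
  obtain ⟨k, x, hx⟩ := Module.DirectLimit.exists_of (directLimitRight f N (AlgebraTensorModule.cancelBaseChange A B B N D z))
  rw [← hof] at hx
  have hx' := (directLimitRight f N).injective hx
  rw [← hx', ← LinearMap.comp_apply, LinearMap.rTensor_comp_lTensor, ← LinearMap.lTensor_comp_rTensor,
    LinearMap.comp_apply] at hz'
  have h1 := congrArg (directLimitRight f N') hz'
  rw [hof, map_zero] at h1
  obtain ⟨j, hkj, hj⟩ := Module.DirectLimit.of.zero_exact h1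
  change (f k j hkj).lTensor N' (φA.rTensor (Z k) x) = 0 at hj
  rw [← LinearMap.comp_apply, LinearMap.lTensor_comp_rTensor, ← LinearMap.rTensor_comp_lTensor,
    LinearMap.comp_apply] at hj
  have h2 : (f k j hkj).lTensor N x = 0 := hk j (hj.trans (map_zero _).symm)
  refine (AlgebraTensorModule.cancelBaseChange A B B N D).injective (hx'.symm.trans ?_ |>.trans (map_zero _).symm)
  rw [show Module.DirectLimit.of A ℕ Z f k = (Module.DirectLimit.of A ℕ Z f j).comp (f k j hkj) from
    LinearMap.ext fun g => Module.DirectLimit.of_f.symm, LinearMap.lTensor_comp, LinearMap.comp_apply, h2, map_zero]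

end StratLib
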