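import Groth.Agent.StratLib.Shift
import Groth.Agent.StratLib.FlatColim
import Groth.Agent.FlatLib.GenericFree

/-!
# The stratification data of a finitely generated graded module
-/

set_option autoImplicit false

universe u

open TensorProduct CategoryTheory CategoryTheory.Limits GradedCechLib MvPolynomial

noncomputable section

namespace StratLib

variable {R : Type u} [CommRing R] {ι : Type} [Fintype ι] [DecidableEq ι]
variable {N : Type u} [AddCommGroup N] [Module (MvPolynomial ι R) N] [Module R N] [IsScalarTower R (MvPolynomial ι R) N]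
variable (G : Grading R ι N)

/-- The augmented complexes of the natural degrees. -/
abbrev YG (m : ℕ) (j : ℕ) : Type u := YK (locSys G (m : ℤ)) j

/-- Their differentials. -/
abbrev dG (m : ℕ) (j : ℕ) : YG G m j →ₗ[R] YG G m (j + 1) := dK (locSys G (m : ℤ)) j

/-- Degree parts of a localisation in all degrees are the same. -/
def shiftEquiv (i : ι) (m : ℕ) (s : Finset ι) (hi : i ∈ s) :
    (locSys G 0).obj s ≃ₗ[R] (locSys G (m : ℤ)).obj s :=
  LinearEquiv.ofBijective ((mulX G i m 0 m (by simp)).app s).hom (mulX_bijective G i m 0 m (by simp) s hi)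

theorem shiftEquiv_mulX (i : ι) (m e : ℕ) (s : Finset ι) (hi : i ∈ s) (m' : ℕ) (h : (m' : ℤ) = m + e)
    (z : (locSys G 0).obj s) :
    shiftEquiv G i m' s hi z = ((mulX G i e m m' h).app s).hom (shiftEquiv G i m s hi z) := by
  refine Subtype.ext ?_
  show (X i : MvPolynomial ι R) ^ m' • Subtype.val z = (X i : MvPolynomial ι R) ^ e • ((X i : MvPolynomial ι R) ^ m • Subtype.val z)
  rw [smul_smul, ← pow_add]
  congr 2
  omega

/-- Flatness of a chart from flatness of the cocycles of high degrees. -/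
theorem flat_chart_of_flat_Z0 (B : Type u) [CommRing B] [Algebra R B] (N₀ : ℕ)
    (h : ∀ m, N₀ ≤ m → Module.Flat B (B ⊗[R] YG G m 0)) (i : ι) :
    Module.Flat B (B ⊗[R] (locSys G 0).obj (rng (oneJ i))) := by
  have hi : i ∈ rng (oneJ i) := by simp [rng, oneJ]
  let Z : ℕ → Type u := fun k => Z0 (locSys G ((N₀ + k : ℕ) : ℤ))
  let f : ∀ a b, a ≤ b → (Z a →ₗ[R] Z b) := fun a b hab =>
    mapZ (mulX G i (b - a) ((N₀ + a : ℕ) : ℤ) ((N₀ + b : ℕ) : ℤ) (by omega))
  haveI : DirectedSystem Z (fun a b hab => f a b hab) :=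
    { map_self := fun a x => Subtype.ext (funext fun J => Subtype.ext (by
        show (X i : MvPolynomial ι R) ^ (a - a) • Subtype.val (x.1 J) = Subtype.val (x.1 J)
        rw [Nat.sub_self, pow_zero, one_smul]))
      map_map := fun c b a hab hbc x => Subtype.ext (funext fun J => Subtype.ext (by
        show (X i : MvPolynomial ι R) ^ (c - b) • ((X i : MvPolynomial ι R) ^ (b - a) • Subtype.val (x.1 J)) =
          (X i : MvPolynomial ι R) ^ (c - a) • Subtype.val (x.1 J)
        rw [smul_smul, ← pow_add]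
        congr 2
        omega)) }
  let ψ : ∀ k, Z k →ₗ[R] (locSys G 0).obj (rng (oneJ i)) := fun k =>
    (shiftEquiv G i (N₀ + k) (rng (oneJ i)) hi).symm.toLinearMap.comp (evalZ (locSys G ((N₀ + k : ℕ) : ℤ)) i)
  refine flat_of_exhaust B Z f ψ (fun a b hab x => ?_) (fun p => ?_) (fun k x hx => ?_) fun k => h _ (Nat.le_add_right _ _)
  · refine (shiftEquiv G i (N₀ + b) (rng (oneJ i)) hi).injective ?_
    simp only [ψ, LinearMap.comp_apply, LinearEquiv.coe_coe, LinearEquiv.apply_symm_apply]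
    rw [shiftEquiv_mulX G i (N₀ + a) (b - a) (rng (oneJ i)) hi (N₀ + b) (by omega), LinearEquiv.apply_symm_apply]
    rfl
  · obtain ⟨e₀, he₀⟩ := exists_cls G i 0 p
    obtain ⟨c, hc⟩ := he₀ (N₀ + e₀) (Nat.le_add_left _ _) ((N₀ + e₀ : ℕ) : ℤ) (zero_add _).symm
    exact ⟨e₀, c, (LinearEquiv.symm_apply_eq _).2 hc⟩
  · have hx' : evalZ (locSys G ((N₀ + k : ℕ) : ℤ)) i x = 0 := by
      have := congrArg (shiftEquiv G i (N₀ + k) (rng (oneJ i)) hi) hx
      rwa [map_zero, LinearMap.comp_apply, LinearEquiv.coe_coe, LinearEquiv.apply_symm_apply] at this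
    obtain ⟨e₀, he₀⟩ := exists_mulX_eq_zero G i _ x hx'
    exact ⟨k + e₀, Nat.le_add_right _ _, he₀ _ (by omega) _ _⟩

variable (hgf : ∀ p : Ideal R, p.IsPrime → ∀ s : Finset ι, s.Nonempty →
  ∃ f : R ⧸ p, f ≠ 0 ∧ Module.Free (Localization.Away f) (Localization.Away f ⊗[R] (locSys G 0).obj s))

include hgf in
theorem exists_away_flat (p : Ideal R) (hp : p.IsPrime) : ∃ a, a ∉ p ∧ ∀ m j,
    Module.Flat (Localization.Away (Ideal.Quotient.mk p a))
      (Localization.Away (Ideal.Quotient.mk p a) ⊗[R] YG G m (j + 1)) := by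
  classical
  haveI := hp
  choose! f hf hfree using hgf p hp
  let S := (Finset.univ : Finset (Finset ι)).filter (·.Nonempty)
  obtain ⟨a, ha⟩ := Ideal.Quotient.mk_surjective (∏ s ∈ S, f s)
  have hne : ∏ s ∈ S, f s ≠ 0 := Finset.prod_ne_zero_iff.2 fun s hs => hf s (Finset.mem_filter.1 hs).2
  refine ⟨a, fun h => hne (ha ▸ Ideal.Quotient.eq_zero_iff_mem.2 h), fun m j => ?_⟩
  refine flat_bY (Localization.Away (Ideal.Quotient.mk p a)) (locSys G (m : ℤ)) (fun s hs => ?_) j
  let L := Localization.Away (Ideal.Quotient.mk p a)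
  haveI hL : Module.Free L (L ⊗[R] (locSys G 0).obj s) := by
    have hu : IsUnit (algebraMap (R ⧸ p) L (f s)) := by
      refine isUnit_of_dvd_unit ?_ (IsLocalization.Away.algebraMap_isUnit (S := L) (Ideal.Quotient.mk p a))
      exact map_dvd _ ((Finset.dvd_prod_of_mem f (Finset.mem_filter.2 ⟨Finset.mem_univ s, hs⟩)).trans (dvd_of_eq ha.symm))
    letI : Algebra (Localization.Away (f s)) L := (IsLocalization.Away.lift (f s) hu).toAlgebra
    haveI : IsScalarTower R (Localization.Away (f s)) L := IsScalarTower.of_algebraMap_eq fun r => by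
      rw [RingHom.algebraMap_toAlgebra, IsScalarTower.algebraMap_apply R (R ⧸ p) (Localization.Away (f s)),
        IsLocalization.Away.lift_eq, ← IsScalarTower.algebraMap_apply]
    haveI := hfree s hs
    exact Module.Free.of_equiv (AlgebraTensorModule.cancelBaseChange R (Localization.Away (f s)) L L _)
  obtain ⟨i, hi⟩ := hs
  exact @Module.Flat.of_linearEquiv _ _ _ _ _ _ _ _ (@Module.Flat.of_free _ _ _ _ _ hL)
    (AlgebraTensorModule.congr (LinearEquiv.refl L L) (shiftEquiv G i m s hi)).symm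

include hgf in
/-- **One bound for all fibres**, with finitely many rank functions. -/
theorem exists_bound [IsNoetherianRing R] [Nonempty ι] (hG : IsFG G) :
    ∃ (N₀ : ℕ) (S : Finset (ℕ → ℕ)), ∀ q : PrimeSpectrum R,
      (∀ m, N₀ ≤ m → ExT (YG G m) (dG G m) q.asIdeal.ResidueField) ∧
        ∃ r ∈ S, ∀ m, N₀ ≤ m → rk (YG G) m q = r m := by
  haveI : ∀ m : ℕ, Module.Finite R (YG G m 0) := fun m => finite_K0 _ (finite_H G hG m 0)
  obtain ⟨N₀, S, h⟩ := exists_uniform (Y := YG G) (d := dG G) (fun m j => dK_dK _ j) (Fintype.card ι + 1)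
    (fun m M _ _ j hj => exact_top_K _ M j hj) (exists_away_flat G hgf) (fun p hp => by
      obtain ⟨d₀, hd₀⟩ := exists_exT_quotient G hG p
      exact ⟨d₀.toNat, fun m hm => hd₀ m (by omega)⟩) ⊥
  exact ⟨N₀, S, fun q => h q bot_le⟩

/-- A flat base change makes the cocycles flat in high degree. -/
theorem flat_Z0_of_flat_charts [IsNoetherianRing R] (hG : IsFG G) (B : Type u) [CommRing B] [Algebra R B]
    [IsNoetherianRing B] (h : ∀ s : Finset ι, s.Nonempty → Module.Flat B (B ⊗[R] (locSys G 0).obj s)) (m : ℕ)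
    (hm : ∀ q : PrimeSpectrum R, ExT (YG G m) (dG G m) q.asIdeal.ResidueField) :
    Module.Flat B (B ⊗[R] YG G m 0) := by
  haveI : Module.Finite R (YG G m 0) := finite_K0 _ (finite_H G hG m 0)
  refine flat_first_of_fibres (Y := YG G m) (d := dG G m) B (dK_dK _) (fun j => ?_) hm
  refine flat_bY B (locSys G (m : ℤ)) (fun s hs => ?_) j
  haveI := h s hs
  obtain ⟨i, hi⟩ := hs
  exact Module.Flat.of_linearEquiv (AlgebraTensorModule.congr (LinearEquiv.refl B B) (shiftEquiv G i m s hi)).symm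

end StratLib
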