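import Groth.Agent.StratLib.Light
import Groth.Agent.RichLib.IsFPAffine
import Groth.Agent.KFlatLib.PerfectPull

/-!
# Flatness of a pulled back module through sections on affine charts
-/

set_option autoImplicit false
set_option maxHeartbeats 1000000

noncomputable section

universe u

open CategoryTheory CategoryTheory.Limits AlgebraicGeometry TensorProduct TopologicalSpace Opposite QCohLib KFlatLib

namespace StratLib

/-- Sections over an open over the functions on an open of the base. -/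
def SecA {X T : Scheme.{u}} (_q : X ⟶ T) (G : X.Modules) (W : T.Opens) (V : X.Opens) (_e : V ≤ _q ⁻¹ᵁ W) : Type u :=
  Γ(G, V)

instance {X T : Scheme.{u}} (q : X ⟶ T) (G : X.Modules) (W : T.Opens) (V : X.Opens) (e : V ≤ q ⁻¹ᵁ W) :
    AddCommGroup (SecA q G W V e) := inferInstanceAs (AddCommGroup Γ(G, V))

instance {X T : Scheme.{u}} (q : X ⟶ T) (G : X.Modules) (W : T.Opens) (V : X.Opens) (e : V ≤ q ⁻¹ᵁ W) :
    Module Γ(X, V) (SecA q G W V e) := inferInstanceAs (Module Γ(X, V) Γ(G, V))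

instance secAModule {X T : Scheme.{u}} (q : X ⟶ T) (G : X.Modules) (W : T.Opens) (V : X.Opens) (e : V ≤ q ⁻¹ᵁ W) :
    Module Γ(T, W) (SecA q G W V e) := Module.compHom _ (q.appLE W V e).hom

/-- Flatness over a chart of the base change, read on the sections before base change. -/
theorem flat_chart_iff {X T X'' Y : Scheme.{u}} {m : X'' ⟶ X} {r : X'' ⟶ Y} {q : X ⟶ T}
    {h : Y ⟶ T} (sq : IsPullback m r q h) (G : X.Modules) [Coh.IsQCoh G]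
    {T₀ : T.Opens} (hT₀ : IsAffineOpen T₀) {Y₀ : Y.Opens} (hY₀ : IsAffineOpen Y₀) (hY₀T : Y₀ ≤ h ⁻¹ᵁ T₀)
    {X₀ : X.Opens} (hX₀ : IsAffineOpen X₀) (hX₀T : X₀ ≤ q ⁻¹ᵁ T₀) :
    letI := (h.appLE T₀ Y₀ hY₀T).hom.toAlgebra
    Module.Flat Γ(Y, Y₀) (Γ(Y, Y₀) ⊗[Γ(T, T₀)] SecA q G T₀ X₀ hX₀T) ↔
      ∀ z : X'', m z ∈ X₀ → r z ∈ Y₀ → FlatMod.IsFlatOverAt r ((Scheme.Modules.pullback m).obj G) z := by
  haveI : Coh.IsQCoh ((Scheme.Modules.pullback m).obj G) := KFlatLib.isQCoh_pullback m G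
  obtain ⟨hO, hpo⟩ := pullback_chart sq hT₀ hY₀ hY₀T hX₀ hX₀T
  let O : X''.Opens := m ⁻¹ᵁ X₀ ⊓ r ⁻¹ᵁ Y₀
  have e₁ : O ≤ m ⁻¹ᵁ X₀ := inf_le_left
  have e₂ : O ≤ r ⁻¹ᵁ Y₀ := inf_le_right
  letI : Algebra Γ(T, T₀) Γ(X, X₀) := (q.appLE T₀ X₀ hX₀T).hom.toAlgebra
  letI : Algebra Γ(T, T₀) Γ(Y, Y₀) := (h.appLE T₀ Y₀ hY₀T).hom.toAlgebra
  letI : Algebra Γ(X, X₀) Γ(X'', O) := (m.appLE X₀ O e₁).hom.toAlgebra
  letI : Algebra Γ(Y, Y₀) Γ(X'', O) := (r.appLE Y₀ O e₂).hom.toAlgebra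
  letI : Algebra Γ(T, T₀) Γ(X'', O) := ((m.appLE X₀ O e₁).hom.comp (q.appLE T₀ X₀ hX₀T).hom).toAlgebra
  haveI : IsScalarTower Γ(T, T₀) Γ(X, X₀) Γ(X'', O) := IsScalarTower.of_algebraMap_eq fun _ => rfl
  haveI : IsScalarTower Γ(T, T₀) Γ(Y, Y₀) Γ(X'', O) := IsScalarTower.of_algebraMap_eq fun x =>
    RingHom.congr_fun (congrArg CommRingCat.Hom.hom hpo.w) x
  haveI : Algebra.IsPushout Γ(T, T₀) Γ(Y, Y₀) Γ(X, X₀) Γ(X'', O) :=
    Algebra.IsPushout.symm (CommRingCat.isPushout_iff_isPushout.mp hpo)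
  letI : Module Γ(T, T₀) Γ(G, X₀) := Module.compHom _ (q.appLE T₀ X₀ hX₀T).hom
  haveI : IsScalarTower Γ(T, T₀) Γ(X, X₀) Γ(G, X₀) := IsScalarTower.of_algebraMap_smul fun _ _ => rfl
  letI : Module Γ(X, X₀) Γ(pb m G, O) := Module.compHom _ (m.appLE X₀ O e₁).hom
  haveI : IsScalarTower Γ(X, X₀) Γ(X'', O) Γ(pb m G, O) := IsScalarTower.of_algebraMap_smul fun _ _ => rfl
  letI : Module Γ(Y, Y₀) Γ(pb m G, O) := Module.compHom _ (r.appLE Y₀ O e₂).hom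
  haveI : IsScalarTower Γ(Y, Y₀) Γ(X'', O) Γ(pb m G, O) := IsScalarTower.of_algebraMap_smul fun _ _ => rfl
  let ψ : Γ(G, X₀) →ₗ[Γ(X, X₀)] Γ(pb m G, O) :=
    { toFun := puSecLE m G e₁, map_add' := map_add _
      map_smul' := fun a g => puSecLE_smul m G e₁ a g }
  have hb := isBaseChange_puSec m G hX₀ hO e₁ (fun _ => rfl) ψ fun _ => rfl
  let E := (Algebra.IsPushout.cancelBaseChange Γ(T, T₀) Γ(Y, Y₀) Γ(X, X₀) Γ(X'', O) Γ(G, X₀))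
  let Φ : Γ(Y, Y₀) ⊗[Γ(T, T₀)] SecA q G T₀ X₀ hX₀T ≃ₗ[Γ(Y, Y₀)] Γ(pb m G, O) :=
    (((hb.equiv.restrictScalars Γ(Y, Y₀)).symm.trans (E.restrictScalars Γ(Y, Y₀)))).symm
  constructor
  · intro hfl z hz₁ hz₂
    haveI := hfl
    haveI : Module.Flat Γ(Y, Y₀) Γ(pb m G, O) := Module.Flat.of_linearEquiv Φ.symm
    exact flatAt_of_sections r _ hY₀ hO e₂ rfl ⟨hz₁, hz₂⟩
  · intro hfl
    haveI : Module.Flat Γ(Y, Y₀) Γ(pb m G, O) :=
      RichLib.IsFPAffine.flat_sections r (pb m G) hY₀ hO e₂ rfl fun w hw => hfl w hw.1 hw.2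
    exact Module.Flat.of_linearEquiv Φ

end StratLib
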