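import Groth.Agent.StratLib.System

/-!
# The Čech complex of a system augmented by its cycles of degree zero
-/

set_option autoImplicit false

universe u

open TensorProduct CategoryTheory CategoryTheory.Limits GradedCechLib

noncomputable section

namespace StratLib

variable {R : Type u} [CommRing R] {ι : Type} [Fintype ι] [DecidableEq ι]

/-- The cocycles of degree zero. -/
abbrev Z0 (L : Sys R ι) : Submodule R (Yc L 1) := LinearMap.ker (dY L 1)

/-- The terms. -/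
def YK (L : Sys R ι) : ℕ → ModuleCat.{u} R
  | 0 => ModuleCat.of R (Z0 L)
  | j + 1 => ModuleCat.of R (Yc L (j + 1))

/-- The differentials. -/
def dK (L : Sys R ι) : ∀ j, YK L j →ₗ[R] YK L (j + 1)
  | 0 => (Z0 L).subtype
  | j + 1 => dY L (j + 1)

theorem dK_dK (L : Sys R ι) : ∀ j, (dK L (j + 1)).comp (dK L j) = 0
  | 0 => LinearMap.ext fun c => c.2
  | j + 1 => dY_dY L (j + 1)

theorem mapY_Z0 {L Q : Sys R ι} (φ : L ⟶ Q) (c : Z0 L) : mapY φ 1 c.1 ∈ Z0 Q := by
  rw [LinearMap.mem_ker, ← mapY_dY]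
  exact (congrArg _ c.2).trans (map_zero _)

/-- The induced map on cycles. -/
def mapZ {L Q : Sys R ι} (φ : L ⟶ Q) : Z0 L →ₗ[R] Z0 Q :=
  ((mapY φ 1).comp (Z0 L).subtype).codRestrict _ (mapY_Z0 φ)

theorem exT_of_iso (L Q : Sys R ι) (M : Type u) [AddCommGroup M] [Module R M]
    (e : ∀ j, M ⊗[R] Yc L (j + 1) ≃ₗ[R] Yc Q (j + 1))
    (hc : ∀ j x, e (j + 1) ((dY L (j + 1)).lTensor M x) = dY Q (j + 1) (e j x))
    (hH : ∀ p, IsZero (H Q (p + 1)))
    (h0 : ∀ c : Z0 Q, ∃ x : M ⊗[R] Z0 L, e 0 ((Z0 L).subtype.lTensor M x) = c.1)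
    (h0' : Function.Injective ((Z0 L).subtype.lTensor M)) :
    ExT (fun j => YK L j) (dK L) M := by
  refine ⟨h0', fun j => ?_⟩
  rcases j with _ | j
  · intro y
    refine ⟨fun hy => ?_, ?_⟩
    · have h1 : e 0 y ∈ Z0 Q := (LinearMap.mem_ker.2 ((hc 0 y).symm.trans ((congrArg _ hy).trans (map_zero _))))
      obtain ⟨x, hx⟩ := h0 ⟨_, h1⟩
      exact ⟨x, (e 0).injective hx⟩
    · rintro ⟨x, rfl⟩
      exact dd_lTensor (Y := fun j => YK L j) (dK_dK L) M 0 x
  · intro y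
    refine ⟨fun hy => ?_, ?_⟩
    · obtain ⟨x, hx⟩ := (exact_of_isZero Q j (hH j) (e (j + 1) y)).1
        ((hc (j + 1) y).symm.trans ((congrArg _ hy).trans (map_zero _)))
      obtain ⟨x, rfl⟩ := (e j).surjective x
      exact ⟨x, (e (j + 1)).injective ((hc j x).trans hx)⟩
    · rintro ⟨x, rfl⟩
      exact dd_lTensor (Y := fun j => YK L j) (dK_dK L) M (j + 1) x

/-- Exactness with coefficients in high degrees. -/
theorem exact_top_K (L : Sys R ι) (M : Type u) [AddCommGroup M] [Module R M] (j : ℕ) (hj : Fintype.card ι + 1 ≤ j) :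
    Function.Exact ((dK L j).lTensor M) ((dK L (j + 1)).lTensor M) := by
  obtain ⟨i, rfl⟩ : ∃ i, j = i + 1 := ⟨j - 1, by omega⟩
  exact exact_top M L (i + 1) hj

theorem finite_K0 [IsNoetherianRing R] (L : Sys R ι) (h : Module.Finite R (H L 0)) : Module.Finite R (YK L 0) := by
  haveI : IsIso ((cx L).homologyπ 0) := (cx L).isIso_homologyπ 0 0 (by simp) ((cx L).shape 0 0 (by simp))
  haveI : Module.Finite R ((cx L).cycles 0) :=
    Module.Finite.equiv (asIso ((cx L).homologyπ 0)).toLinearEquiv.symm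
  let ι₀ : (cx L).cycles 0 →ₗ[R] Yc L 1 := ((cx L).iCycles 0).hom
  have hmem : ∀ z, ι₀ z ∈ Z0 L := fun z =>
    LinearMap.mem_ker.2 ((cx_d (L := L) 0 _).symm.trans
      (congrArg (fun f : (cx L).cycles 0 ⟶ (cx L).X 1 => f.hom z) ((cx L).iCycles_d 0 1)))
  refine Module.Finite.of_surjective (ι₀.codRestrict (Z0 L) hmem) fun c => ?_
  have hc : (ModuleCat.ofHom (LinearMap.toSpanSingleton R (Yc L 1) c.1) : ModuleCat.of R R ⟶ (cx L).X 0) ≫
      (cx L).d 0 1 = 0 :=
    ModuleCat.hom_ext (LinearMap.ext_ring ((congrArg ((cx L).d 0 1).hom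
      (LinearMap.toSpanSingleton_apply_one R _ c.1)).trans ((cx_d (L := L) 0 c.1).trans c.2)))
  refine ⟨((cx L).liftCycles _ 1 (by simp) hc).hom 1, Subtype.ext ?_⟩
  exact (congrArg (fun f : ModuleCat.of R R ⟶ (cx L).X 0 => f.hom 1) ((cx L).liftCycles_i _ 1 (by simp) hc)).trans
    (LinearMap.toSpanSingleton_apply_one R _ c.1)

end StratLib
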