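import Groth.Agent.StratLib.Sec0
import Groth.Agent.StratLib.GenFree
import Groth.Agent.StratLib.Affine
import Groth.Agent.StratLib.Chart
import Groth.Agent.StratLib.Fibre
import Groth.Agent.PicPnLib.BaseChange
import Groth.Agent.RichLib.FibreProper
import Groth.Agent.HilbPolyLib.Twist
import Groth.Agent.SerreVanLib.Rpush
import Groth.Prelude.Def_SecTwist

/-!
# Projective space over an affine open of the base
-/

set_option autoImplicit false
set_option maxHeartbeats 1000000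

universe u

open CategoryTheory CategoryTheory.Limits AlgebraicGeometry TopologicalSpace Opposite TensorProduct GradedCechLib

noncomputable section

namespace StratLib

variable {n : ℕ} {S : Scheme.{u}} {W : S.Opens} (hW : IsAffineOpen W)
  (j : CohB1.ProjSpace n Γ(S, W) ⟶ CohB1.ProjSpaceOver n S) [IsOpenImmersion j]
  (sq : IsPullback j (CohB1.ProjSpace.toSpec n Γ(S, W)) (CohB1.ProjSpaceOver.toBase n S) hW.fromSpec)

include sq in
theorem image_le_preimage (U : (CohB1.ProjSpace n Γ(S, W)).Opens) :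
    j ''ᵁ U ≤ CohB1.ProjSpaceOver.toBase n S ⁻¹ᵁ W := by
  rintro _ ⟨x, -, rfl⟩
  show CohB1.ProjSpaceOver.toBase n S (j x) ∈ W
  rw [← Scheme.Hom.comp_apply, sq.w, Scheme.Hom.comp_apply]
  exact hW.opensRange_fromSpec.le ⟨_, rfl⟩

include sq in
theorem image_top : j ''ᵁ ⊤ = CohB1.ProjSpaceOver.toBase n S ⁻¹ᵁ W := by
  refine le_antisymm (image_le_preimage hW j sq ⊤) fun x hx => ?_
  obtain ⟨y, hy⟩ := hW.opensRange_fromSpec.ge hx
  obtain ⟨z, hz, -⟩ := Scheme.exists_preimage_of_isPullback sq x y hy.symm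
  exact ⟨z, trivial, hz⟩

include sq in
theorem appLE_cst (U : (CohB1.ProjSpace n Γ(S, W)).Opens) (h : j ''ᵁ U ≤ CohB1.ProjSpaceOver.toBase n S ⁻¹ᵁ W)
    (a : Γ(S, W)) :
    (j.appIso U).inv (cstOn n Γ(S, W) U a) = (CohB1.ProjSpaceOver.toBase n S).appLE W (j ''ᵁ U) h a := by
  let π := CohB1.ProjSpaceOver.toBase n S
  let τ := CohB1.ProjSpace.toSpec n Γ(S, W)
  have hg : (⊤ : (Spec (CommRingCat.of Γ(S, W))).Opens) ≤ hW.fromSpec ⁻¹ᵁ W := hW.fromSpec_preimage_self.ge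
  have e1 : hW.fromSpec.appLE W ⊤ hg = (Scheme.ΓSpecIso Γ(S, W)).inv := by
    rw [Scheme.Hom.appLE, hW.fromSpec_app_self, Category.assoc, ← Functor.map_comp]
    exact (congrArg ((Scheme.ΓSpecIso Γ(S, W)).inv ≫ ·) ((Spec Γ(S, W)).presheaf.map_id _)).trans (Category.comp_id _)
  have hU : U ≤ j ⁻¹ᵁ (j ''ᵁ U) := (j.preimage_image_eq U).ge
  have e2 : π.appLE W (j ''ᵁ U) h ≫ (j.appIso U).hom =
      (Scheme.ΓSpecIso Γ(S, W)).inv ≫ τ.appLE ⊤ U le_top := by
    rw [Scheme.Hom.appIso_hom', Scheme.Hom.appLE_comp_appLE, ← e1, Scheme.Hom.appLE_comp_appLE]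
    congr 1
    exact sq.w
  have e3 : (cstOn n Γ(S, W) U a) = τ.appLE ⊤ U le_top ((Scheme.ΓSpecIso Γ(S, W)).inv a) := rfl
  rw [e3]
  have e4 : (j.appIso U).inv (((Scheme.ΓSpecIso Γ(S, W)).inv ≫ τ.appLE ⊤ U le_top) a) = π.appLE W (j ''ᵁ U) h a := by
    rw [← e2]
    exact congrArg (fun f : Γ(S, W) ⟶ Γ(CohB1.ProjSpaceOver n S, j ''ᵁ U) => f a)
      ((Category.assoc (π.appLE W (j ''ᵁ U) h) _ _).trans ((congrArg (π.appLE W (j ''ᵁ U) h ≫ ·) (j.appIso U).hom_inv_id).trans (Category.comp_id _)))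
  exact e4

/-- Sections of a restriction, as sections over the base. -/
def secEquiv (M : (CohB1.ProjSpaceOver n S).Modules) (U : (CohB1.ProjSpace n Γ(S, W)).Opens)
    (h : j ''ᵁ U ≤ CohB1.ProjSpaceOver.toBase n S ⁻¹ᵁ W) :
    SecR (M.restrict j) U ≃ₗ[Γ(S, W)] SecA (CohB1.ProjSpaceOver.toBase n S) M W (j ''ᵁ U) h where
  toFun x := (show Γ(M, j ''ᵁ U) from toS (M.restrict j) x)
  invFun x := (toS (M.restrict j)).symm (show Γ(M.restrict j, U) from (show Γ(M, j ''ᵁ U) from x))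
  left_inv x := rfl
  right_inv x := rfl
  map_add' x y := rfl
  map_smul' a x := by
    show ((j.appIso U).inv (cstOn n Γ(S, W) U a)) • (show Γ(M, j ''ᵁ U) from toS (M.restrict j) x) =
      ((CohB1.ProjSpaceOver.toBase n S).appLE W (j ''ᵁ U) h a) • (show Γ(M, j ''ᵁ U) from toS (M.restrict j) x)
    rw [appLE_cst hW j sq U h a]

/-- Sections over equal opens. -/
def secCongr {X T : Scheme.{u}} (q : X ⟶ T) (G : X.Modules) (W : T.Opens) {V V' : X.Opens} (e : V = V')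
    (h : V ≤ q ⁻¹ᵁ W) (h' : V' ≤ q ⁻¹ᵁ W) : SecA q G W V h ≃ₗ[Γ(T, W)] SecA q G W V' h' := by
  subst e
  exact LinearEquiv.refl _ _

/-- A map of systems bijective on nonempty sets, as equivalences. -/
def sysEquiv {R : Type u} [CommRing R] {ι : Type} [Fintype ι] [DecidableEq ι] {L Q : Sys R ι} (φ : L ⟶ Q)
    (h : ∀ s : Finset ι, s.Nonempty → Function.Bijective (φ.app s).hom) (s : Finset ι) (hs : s.Nonempty) :
    L.obj s ≃ₗ[R] Q.obj s :=
  LinearEquiv.ofBijective (φ.app s).hom (h s hs)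

/-- The twisted module and its direct image. -/
abbrev twF (F : (CohB1.ProjSpaceOver n S).Modules) (m : ℤ) : (CohB1.ProjSpaceOver n S).Modules :=
  CohB1.tensorMod F (Twist.twistOver n S m)

include hW in
/-- **The local model** of a coherent module over an affine open. -/
theorem exists_local_model [IsNoetherian S] (F : (CohB1.ProjSpaceOver n S).Modules) (hF : Coh.IsCoh F) :
    ∃ (N : Type u) (_ : AddCommGroup N) (_ : Module (Poly n Γ(S, W)) N) (_ : Module Γ(S, W) N)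
      (_ : IsScalarTower Γ(S, W) (Poly n Γ(S, W)) N) (G : Grading Γ(S, W) (Fin (n + 1)) N), IsFG G ∧
      (∀ p : Ideal Γ(S, W), p.IsPrime → ∀ s : Finset (Fin (n + 1)), s.Nonempty →
        ∃ f : Γ(S, W) ⧸ p, f ≠ 0 ∧ Module.Free (Localization.Away f) (Localization.Away f ⊗[Γ(S, W)] (locSys G 0).obj s)) ∧
      (∃ (V : Finset (Fin (n + 1)) → (CohB1.ProjSpaceOver n S).Opens)
        (e : ∀ s, V s ≤ CohB1.ProjSpaceOver.toBase n S ⁻¹ᵁ W),
        (∀ s, s.Nonempty → IsAffineOpen (V s) ∧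
          Nonempty ((locSys G 0).obj s ≃ₗ[Γ(S, W)] SecA (CohB1.ProjSpaceOver.toBase n S) F W (V s) (e s))) ∧
        ∀ x ∈ CohB1.ProjSpaceOver.toBase n S ⁻¹ᵁ W, ∃ i : Fin (n + 1), x ∈ V (rng (oneJ i))) ∧
      (∀ m : ℕ, Nonempty (YG G m 0 ≃ₗ[Γ(S, W)]
        SecA (CohB1.ProjSpaceOver.toBase n S) (twF F (m : ℤ)) W (CohB1.ProjSpaceOver.toBase n S ⁻¹ᵁ W) le_rfl)) ∧
      ∀ (m : ℕ) {K : Type u} [Field K] [Algebra Γ(S, W) K], ExT (YG G m) (dG G m) K →
        ∀ {X' : Scheme.{u}} {g' : X' ⟶ CohB1.ProjSpaceOver n S} {f' : X' ⟶ Spec (CommRingCat.of K)},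
          IsPullback g' f' (CohB1.ProjSpaceOver.toBase n S)
            (Spec.map (CommRingCat.ofHom (algebraMap Γ(S, W) K)) ≫ hW.fromSpec) →
          letI : X'.Over (Spec (CommRingCat.of K)) := ⟨f'⟩
          Module.finrank K (Coh.HH X' ((Scheme.Modules.pullback g').obj (twF F (m : ℤ))) 0) =
              Module.finrank K (K ⊗[Γ(S, W)] YG G m 0) ∧
            ∀ p, Subsingleton (Coh.HH X' ((Scheme.Modules.pullback g').obj (twF F (m : ℤ))) (p + 1)) := by
  obtain ⟨j, sq, htw⟩ := PicPnLib.exists_square n Γ(S, W) hW.fromSpec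
  haveI : IsOpenImmersion j := MorphismProperty.of_isPullback (P := @IsOpenImmersion) sq.flip inferInstance
  haveI := hF.1
  let π := CohB1.ProjSpaceOver.toBase n S
  let F' := F.restrict j
  haveI hF'q : Coh.IsQCoh F' := (isCoh_restrict j hF).1
  have hF'ft : CohB1.IsFT F' := (isCoh_restrict j hF).2
  haveI : LocallyOfFiniteType (CohB1.ProjSpace.toSpec n Γ(S, W)) := by
    haveI : IsProper (CohB1.ProjSpace.toSpec n Γ(S, W)) := isProper_toSpec n _
    infer_instance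
  obtain ⟨N, _, _, _, _, G, hG, hφ⟩ := exists_model F' hF'q hF'ft
  choose φ hφb using hφ
  have htwist : ∀ t : ℤ, Nonempty ((twF F t).restrict j ≅ CohB1.tensorMod F' (Twist.twistProjSpace n Γ(S, W) t)) := by
    intro t
    have hθ := KFlatLib.isIso_pullθ j F (Twist.twistOver n S t)
    exact ⟨(Scheme.Modules.restrictFunctorIsoPullback j).app _ ≪≫
      (@asIso _ _ _ _ (KFlatLib.pullθ j F (Twist.twistOver n S t)) hθ) ≪≫
      PicGrp.tensorModIso ((Scheme.Modules.restrictFunctorIsoPullback j).app F).symm (htw t).some⟩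
  obtain ⟨e0⟩ := PicPnLib.twist_zero n Γ(S, W)
  let ε0 : CohB1.tensorMod F' (Twist.twistProjSpace n Γ(S, W) 0) ≅ F' :=
    PicGrp.tensorModIso (Iso.refl F') e0 ≪≫ SecTwist.unitorR F'
  let eL : ∀ s : Finset (Fin (n + 1)), s.Nonempty → ((locSys G 0).obj s ≃ₗ[Γ(S, W)] SecR F' (Uof s)) := fun s hs =>
    sysEquiv (φ 0 ≫ PnCohLib.secMap ε0.hom)
      (fun s hs => (PnCohLib.secMap_bijective ε0.hom s).comp (hφb 0 s hs)) s hs
  refine ⟨N, inferInstance, inferInstance, inferInstance, inferInstance, G, hG, fun p hp s hs => ?_,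
    ⟨fun s => j ''ᵁ Uof s, fun s => image_le_preimage hW j sq _, fun s hs => ?_, fun x hx => ?_⟩, fun m => ?_, ?_⟩
  · obtain ⟨f, hf, hfree⟩ := exists_free_sections F' hF'q hF'ft p hp s hs
    exact ⟨f, hf, Module.Free.of_equiv (AlgebraTensorModule.congr (LinearEquiv.refl _ _) (eL s hs).symm)⟩
  · exact ⟨(isAffineOpen_Uof s hs).image_of_isOpenImmersion j, ⟨eL s hs ≪≫ₗ secEquiv hW j sq F (Uof s) _⟩⟩
  · obtain ⟨y, -, rfl⟩ := (image_top hW j sq).ge hx
    obtain ⟨i, hi⟩ := Opens.mem_iSup.1 ((QCohLib.iSup_stdOpen n Γ(S, W)).ge (Opens.mem_top y))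
    have hU : QCohLib.stdOpen n Γ(S, W) i ≤ (Uof (rng (oneJ i)) : (CohB1.ProjSpace n Γ(S, W)).Opens) :=
      Finset.le_inf fun a ha => by simp [rng, oneJ] at ha; rw [ha]
    exact ⟨i, y, hU hi, rfl⟩
  · obtain ⟨ε⟩ := htwist (m : ℤ)
    exact ⟨LinearEquiv.ofBijective (mapZ (φ (m : ℤ) ≫ PnCohLib.secMap ε.inv))
        (mapZ_bijective _ fun s hs => (PnCohLib.secMap_bijective ε.inv s).comp (hφb _ s hs)) ≪≫ₗ
      (globalEquiv _).symm ≪≫ₗ secEquiv hW j sq (twF F (m : ℤ)) ⊤ (image_le_preimage hW j sq _) ≪≫ₗ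
      secCongr π _ W (image_top hW j sq) _ le_rfl⟩
  · intro m K _ _ hex X' g' f' H
    letI : X'.Over (Spec (CommRingCat.of K)) := ⟨f'⟩
    let M := CohB1.tensorMod F' (Twist.twistProjSpace n Γ(S, W) (m : ℤ))
    haveI : Coh.IsQCoh M := (SerreVanLib.isCoh_tensor (⟨hF'q, hF'ft⟩ : Coh.IsCoh F')
      (PicPnLib.twist_inv n Γ(S, W) (m : ℤ))).1
    let g'' : X' ⟶ CohB1.ProjSpace n Γ(S, W) := sq.lift g'
      (f' ≫ Spec.map (CommRingCat.ofHom (algebraMap Γ(S, W) K))) (by rw [Category.assoc]; exact H.w)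
    have hg : g'' ≫ j = g' := sq.lift_fst _ _ _
    have H'' : IsPullback g'' f' (CohB1.ProjSpace.toSpec n Γ(S, W))
        (Spec.map (CommRingCat.ofHom (algebraMap Γ(S, W) K))) :=
      IsPullback.of_right (hg.symm ▸ H) (sq.lift_snd _ _ _) sq
    obtain ⟨h0, hp⟩ := finrank_HH_of_exT M (locSys G (m : ℤ)) (φ (m : ℤ)) (hφb _) hex H''
    obtain ⟨ε⟩ := htwist (m : ℤ)
    let θ : (Scheme.Modules.pullback g').obj (twF F (m : ℤ)) ≅ (Scheme.Modules.pullback g'').obj M :=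
      (Scheme.Modules.pullbackCongr hg.symm).app _ ≪≫ ((Scheme.Modules.pullbackComp g'' j).app _).symm ≪≫
        (Scheme.Modules.pullback g'').mapIso (((Scheme.Modules.restrictFunctorIsoPullback j).app _).symm ≪≫ ε)
    refine ⟨(nonempty_HH_congr f' θ 0).some.finrank_eq.trans h0, fun p => ?_⟩
    haveI := hp p
    exact (nonempty_HH_congr f' θ (p + 1)).some.injective.subsingleton

end StratLib
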