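import Groth.Agent.StratLib.Flattening
import Groth.Agent.HilbPolyLib.Basic
import Groth.Agent.HilbPolyLib.IntNum
import Groth.Agent.GenusZeroLib.PSpace

/-!
# Hilbert polynomials of the fibres
-/

set_option autoImplicit false
set_option maxHeartbeats 1000000

universe u

open CategoryTheory CategoryTheory.Limits AlgebraicGeometry TopologicalSpace Opposite

noncomputable section

namespace StratLib

/-- A function on the integers whose translates are polynomial on the naturals is a polynomial. -/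
theorem exists_poly_int (f : ℤ → ℚ) (h : ∀ a : ℤ, ∃ P : Polynomial ℚ, ∀ j : ℕ, f (a + j) = P.eval (j : ℚ)) :
    ∃ P : Polynomial ℚ, ∀ m : ℤ, f m = P.eval (m : ℚ) := by
  obtain ⟨P₀, h₀⟩ := h 0
  refine ⟨P₀, fun m => ?_⟩
  obtain ⟨P, hP⟩ := h m
  rcases le_or_gt 0 m with hm | hm
  · obtain ⟨j, rfl⟩ := Int.eq_ofNat_of_zero_le hm
    have := h₀ j
    rw [zero_add] at this
    rw [this]
    norm_cast
  · have key : P.comp (Polynomial.X + Polynomial.C (-(m : ℚ))) = P₀ := HilbPolyLib.eq_of_eval_nat fun j => by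
      have h1 := hP (j + (-m).toNat)
      rw [show m + ((j + (-m).toNat : ℕ) : ℤ) = 0 + (j : ℤ) by push_cast; omega, h₀ j] at h1
      rw [Polynomial.eval_comp, h1]
      simp only [Polynomial.eval_add, Polynomial.eval_X, Polynomial.eval_C]
      congr 1
      rw [Nat.cast_add]
      congr 1
      rw [show (((-m).toNat : ℕ) : ℚ) = (((-m).toNat : ℤ) : ℚ) by norm_cast, Int.toNat_of_nonneg (by omega)]
      push_cast; ring
    rw [← key, Polynomial.eval_comp]
    have := hP 0
    simpa using this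

theorem powTwist {r : ℕ} {X Y : Scheme.{u}} (i : X ⟶ CohB1.ProjSpaceOver r Y) : ∀ n : ℕ,
    Nonempty (CohB1.tensorPow ((Scheme.Modules.pullback i).obj (Twist.twistOver r Y 1)) n ≅
      (Scheme.Modules.pullback i).obj (Twist.twistOver r Y (n : ℤ)))
  | 0 => by
    obtain ⟨e⟩ := PicPnLib.twistOver_zero r Y
    exact ⟨(KFlatLib.pullUnitIso i).symm ≪≫ (Scheme.Modules.pullback i).mapIso e.symm⟩
  | n + 1 => by
    obtain ⟨e⟩ := powTwist i n
    obtain ⟨e'⟩ := PicPnLib.twistOver_add r Y (n : ℤ) 1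
    haveI := KFlatLib.isIso_pullθ i (Twist.twistOver r Y (n : ℤ)) (Twist.twistOver r Y 1)
    exact ⟨HilbPolyLib.congrLeft e _ ≪≫
      (@asIso _ _ _ _ (KFlatLib.pullθ i (Twist.twistOver r Y (n : ℤ)) (Twist.twistOver r Y 1)) this).symm ≪≫
      (Scheme.Modules.pullback i).mapIso (e' ≪≫ eqToIso (by push_cast; rfl))⟩

variable {n : ℕ} {S : Scheme.{u}}

/-- The projection of a fibre of projective space. -/
abbrev fibreHom (s : (Over.mk (𝟙 S)).left) :
    (FGA.fibreAt (CohB1.ProjSpaceOver.toBase n S) (Over.mk (𝟙 S)) s).left ⟶ CohB1.ProjSpaceOver n S :=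
  pullback.fst (PicF.XTproj (CohB1.ProjSpaceOver.toBase n S) (Over.mk (𝟙 S))) ((Over.mk (𝟙 S)).left.fromSpecResidueField s) ≫
    pullback.fst (CohB1.ProjSpaceOver.toBase n S) (Over.mk (𝟙 S)).hom

theorem isPullback_fibreHom (s : (Over.mk (𝟙 S)).left) :
    IsPullback (fibreHom (n := n) s) (FGA.fibreAt (CohB1.ProjSpaceOver.toBase n S) (Over.mk (𝟙 S)) s).hom
      (CohB1.ProjSpaceOver.toBase n S) (S.fromSpecResidueField s) := by
  have h := (IsPullback.of_hasPullback (PicF.XTproj (CohB1.ProjSpaceOver.toBase n S) (Over.mk (𝟙 S)))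
    ((Over.mk (𝟙 S)).left.fromSpecResidueField s)).paste_horiz
    (IsPullback.of_hasPullback (CohB1.ProjSpaceOver.toBase n S) (Over.mk (𝟙 S)).hom)
  simpa using! h

variable [AlgebraicGeometry.IsNoetherian S] (F : (CohB1.ProjSpaceOver n S).Modules) (hF : Coh.IsCoh F)

/-- The Euler characteristics of the twists on a fibre. -/
abbrev chi (s : (Over.mk (𝟙 S)).left) (m : ℤ) : ℤ :=
  FGA.eulerCharLE ((Over.mk (𝟙 S)).left.residueField s) (FGA.fibreAt (CohB1.ProjSpaceOver.toBase n S) (Over.mk (𝟙 S)) s).left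
    (CohB1.tensorMod
      (FGA.restrFibre (CohB1.ProjSpaceOver.toBase n S) (Over.mk (𝟙 S)) s (FGA.ET (CohB1.ProjSpaceOver.toBase n S) F (Over.mk (𝟙 S))))
      (FGA.restrFibre (CohB1.ProjSpaceOver.toBase n S) (Over.mk (𝟙 S)) s
        (FGA.ET (CohB1.ProjSpaceOver.toBase n S) (Twist.twistOver n S m) (Over.mk (𝟙 S))))) n

omit [AlgebraicGeometry.IsNoetherian S] in
theorem nonempty_fibre_iso (s : (Over.mk (𝟙 S)).left) (m : ℤ) :
    Nonempty (CohB1.tensorMod
      (FGA.restrFibre (CohB1.ProjSpaceOver.toBase n S) (Over.mk (𝟙 S)) s (FGA.ET (CohB1.ProjSpaceOver.toBase n S) F (Over.mk (𝟙 S))))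
      (FGA.restrFibre (CohB1.ProjSpaceOver.toBase n S) (Over.mk (𝟙 S)) s
        (FGA.ET (CohB1.ProjSpaceOver.toBase n S) (Twist.twistOver n S m) (Over.mk (𝟙 S)))) ≅
      (Scheme.Modules.pullback (fibreHom (n := n) s)).obj (twF F m)) := by
  have hθ := KFlatLib.isIso_pullθ (fibreHom (n := n) s) F (Twist.twistOver n S m)
  exact ⟨PicGrp.tensorModIso ((Scheme.Modules.pullbackComp _ _).app F) ((Scheme.Modules.pullbackComp _ _).app _) ≪≫
    (@asIso _ _ _ _ (KFlatLib.pullθ (fibreHom (n := n) s) F (Twist.twistOver n S m)) hθ).symm⟩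

include hF in
/-- The Euler characteristics of the twists on a fibre are polynomial. -/
theorem exists_chi_poly (s : (Over.mk (𝟙 S)).left) :
    ∃ P : Polynomial ℚ, ∀ m : ℤ, (chi F s m : ℚ) = P.eval (m : ℚ) := by
  let k := (Over.mk (𝟙 S)).left.residueField s
  let Z := (FGA.fibreAt (CohB1.ProjSpaceOver.toBase n S) (Over.mk (𝟙 S)) s)
  let g := fibreHom (n := n) s
  have H := isPullback_fibreHom (n := n) s
  haveI : IsProper (CohB1.ProjSpaceOver.toBase n S) := ChowLib.isProper_toBase n S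
  haveI : IsProper (Z.left ↘ Spec (CommRingCat.of k)) := MorphismProperty.of_isPullback H inferInstance
  haveI := CurvLib.isNoetherian k (X := Z.left)
  have hdim : topologicalKrullDim Z.left ≤ ((n : ℕ) : WithBot ℕ∞) := by
    obtain ⟨j, hj, -⟩ := PicPnLib.exists_square n k (S.fromSpecResidueField s)
    let e : CohB1.ProjSpace n k ≅ Z.left := hj.isoIsPullback _ _ H
    rw [← IsHomeomorph.topologicalKrullDim_eq _ (Scheme.Hom.homeomorph e.hom).isHomeomorph]
    exact (GenusZeroLib.dim_projSpace k n).le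
  have hchi : ∀ m : ℤ, (chi F s m : ℚ) =
      (Curv2.euler k Z.left ((Scheme.Modules.pullback g).obj (twF F m)) : ℚ) := fun m => by
    rw [chi, HilbPolyLib.eulerCharLE_eq hdim, CurvLib.euler_congr (nonempty_fibre_iso F s m).some]
  refine exists_poly_int _ fun a => ?_
  have hL : PicF.IsInvertible ((Scheme.Modules.pullback g).obj (Twist.twistOver n S 1)) :=
    AmpleDevLib.isInvertible_pb g (PicPnLib.twistOver_inv n S 1)
  obtain ⟨P, hP⟩ := HilbPolyLib.exists_isHilbPoly' (k := k) hL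
    (ConsLib.isCoh_pullback g (SerreVanLib.isCoh_tensor hF (PicPnLib.twistOver_inv n S a)))
  refine ⟨P, fun j => ?_⟩
  rw [hchi, ← hP j, HilbPolyLib.euler_twist]
  obtain ⟨e₁⟩ := powTwist g j
  obtain ⟨e₂⟩ := PicPnLib.twistOver_add n S a (j : ℤ)
  have hθ := KFlatLib.isIso_pullθ g (twF F a) (Twist.twistOver n S (j : ℤ))
  refine congrArg Int.cast (CurvLib.euler_congr ?_)
  exact (Scheme.Modules.pullback g).mapIso
      (PicGrp.tensorModIso (Iso.refl F) e₂.symm ≪≫ (HilbPolyLib.assocIso F _ _).symm) ≪≫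
    (@asIso _ _ _ _ (KFlatLib.pullθ g (twF F a) (Twist.twistOver n S (j : ℤ))) hθ) ≪≫
    HilbPolyLib.congrRight _ e₁.symm ≪≫ HilbPolyLib.swapIso _ _

end StratLib
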