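import Groth.Agent.StratLib.Cycles
import Groth.Agent.GradedCechLib.Finite

/-!
# High degrees of a finitely generated graded module: coefficients in quotient rings
-/

set_option autoImplicit false

universe u

open TensorProduct CategoryTheory CategoryTheory.Limits GradedCechLib MvPolynomial

noncomputable section

namespace StratLib

variable {R : Type u} [CommRing R] {ι : Type} [Fintype ι] [DecidableEq ι]

theorem exists_Z0_lift {L L' L'' : Sys R ι} {φ : L ⟶ L'} {ψ : L' ⟶ L''} (h : Exact3 φ ψ) (h1 : IsZero (H L 1))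
    (c : Z0 L'') : ∃ z : Z0 L', mapY ψ 1 z.1 = c.1 := by
  choose b hb using fun J : Fin 1 → ι => h.surj _ (rng_nonempty J) (c.1 J)
  have hb' : mapY ψ 1 b = c.1 := funext hb
  have hdb : mapY ψ 2 (dY L' 1 b) = 0 := by
    rw [mapY_dY, hb']
    exact c.2
  choose w hw using fun J : Fin 2 → ι => h.exact _ (rng_nonempty J) (dY L' 1 b J) (congrFun hdb J)
  have hw' : mapY φ 2 w = dY L' 1 b := funext hw
  have hinj : ∀ j, Function.Injective (mapY φ (j + 1)) := fun j a a' e =>
    funext fun J => h.inj _ (rng_nonempty J) (congrFun e J)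
  obtain ⟨v, hv⟩ := (exact_of_isZero L 0 h1 w).1 (hinj 2 (by
    rw [mapY_dY, hw', map_zero]
    exact LinearMap.congr_fun (dY_dY L' 1) b))
  refine ⟨⟨b - mapY φ 1 v, LinearMap.mem_ker.2 ?_⟩, ?_⟩
  · rw [map_sub, ← mapY_dY, hv, hw', sub_self]
  · show mapY ψ 1 (b - mapY φ 1 v) = c.1
    rw [map_sub, hb', sub_eq_self]
    exact funext fun J => h.zero _ _

variable {N : Type u} [AddCommGroup N] [Module (MvPolynomial ι R) N] [Module R N] [IsScalarTower R (MvPolynomial ι R) N]
variable (G : Grading R ι N)

theorem frac_sum {κ : Type*} (S : Finset κ) (s : Finset ι) (y : κ → N) (m : ℕ) :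
    frac (R := R) s (∑ k ∈ S, y k) m = ∑ k ∈ S, frac s (y k) m := by
  classical
  induction S using Finset.induction_on with
  | empty => simp [frac]
  | @insert k S hk ih => rw [Finset.sum_insert hk, Finset.sum_insert hk, ← ih, frac, frac, frac,
      LocalizedModule.mk_add_mk]; exact (LocalizedModule.mk_cancel_common_left (pw R s m) (pw R s m) _).symm.trans (by rw [smul_add])

/-- The graded span of homogeneous elements. -/
def spanGrading {κ : Type} [Fintype κ] (e : κ → ℤ) (g : κ → N) : Grading R ι N where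
  piece d := ((freeGrading R κ e).piece d).map ((genMap (R := R) (ι := ι) g).restrictScalars R)
  X_smul_mem i d y hy := by
    obtain ⟨f, hf, rfl⟩ := hy
    exact ⟨(X i : MvPolynomial ι R) • f, (freeGrading R κ e).X_smul_mem i d f hf,
      map_smul (genMap (R := R) g) (X i : MvPolynomial ι R) f⟩

theorem single_mem_free {κ : Type} [Fintype κ] [DecidableEq κ] (e : κ → ℤ) (k : κ) :
    (Pi.single k 1 : κ → MvPolynomial ι R) ∈ (freeGrading R κ e).piece (-e k) := fun l a h => by
  rcases eq_or_ne l k with rfl | hl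
  · rw [Pi.single_eq_same, coeff_one] at h
    split_ifs at h with h0
    · simp [← h0]
    · exact absurd rfl h
  · rw [Pi.single_eq_of_ne hl, coeff_zero] at h
    exact absurd rfl h

theorem isFG_spanGrading {r : ℕ} (e : Fin r → ℤ) (g : Fin r → N) : IsFG (spanGrading (R := R) (ι := ι) e g) :=
  ⟨r, e, g, fun k => ⟨Pi.single k 1, single_mem_free e k, by
    show genMap (R := R) (ι := ι) g (Pi.single k 1) = g k
    rw [genMap, Fintype.linearCombination_apply_single, one_smul]⟩, fun d y hy => hy⟩

theorem spanGrading_le {κ : Type} [Fintype κ] (e : κ → ℤ) (g : κ → N) (hg : ∀ k, g k ∈ G.piece (-e k)) :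
    IsHom (spanGrading (R := R) (ι := ι) e g) G LinearMap.id := by
  rintro d _ ⟨f, hf, rfl⟩
  exact genMap_isHom G e g hg d f hf

theorem exists_isZero_all [IsNoetherianRing R] [Nonempty ι] (hG : IsFG G) :
    ∃ d₀ : ℤ, ∀ d, d₀ ≤ d → ∀ p, IsZero (H (locSys G d) (p + 1)) := by
  choose d hd using fun p => exists_isZero_H G hG p
  refine ⟨(Finset.range (Fintype.card ι)).sup' (by simp [Fintype.card_ne_zero]) d, fun t ht p => ?_⟩
  by_cases hp : p < Fintype.card ι
  · exact hd p t (le_trans (Finset.le_sup' d (Finset.mem_range.2 hp)) ht)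
  · exact isZero_of_card_le _ _ (by omega)

/-- The quotient system by the part spanned by given elements. -/
theorem exact3_quot (J : Grading R ι N) (hJ : IsHom J G LinearMap.id) (d : ℤ) :
    Exact3 (sysMap J G LinearMap.id hJ d) (cokerπ (sysMap J G LinearMap.id hJ d)) where
  inj s _ := by
    intro (z : locPiece J d s) (z' : locPiece J d s) e
    have e' : locMap (R := R) (LinearMap.id : N →ₗ[MvPolynomial ι R] N) s (z : Loc R N s) =
        locMap (R := R) (LinearMap.id : N →ₗ[MvPolynomial ι R] N) s (z' : Loc R N s) := congrArg Subtype.val e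
    have hid : ∀ w : Loc R N s, locMap (R := R) (LinearMap.id : N →ₗ[MvPolynomial ι R] N) s w = w := fun w => by
      induction w using LocalizedModule.induction_on with
      | h y x => obtain ⟨_, m, rfl⟩ := x; exact locMap_frac LinearMap.id s y m
    rw [hid, hid] at e'
    exact Subtype.ext e'
  surj _ _ := Submodule.mkQ_surjective _
  zero _ x := (Submodule.Quotient.mk_eq_zero _).2 ⟨x, rfl⟩
  exact _ _ y hy := (Submodule.Quotient.mk_eq_zero _).1 hy

/-- **Coefficients in quotient rings**: in high degrees the augmented complex stays exact. -/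
theorem exists_exT_quotient [IsNoetherianRing R] [Nonempty ι] (hG : IsFG G) (I : Ideal R) :
    ∃ d₀ : ℤ, ∀ d, d₀ ≤ d → ExT (fun j => YK (locSys G d) j) (dK (locSys G d)) (R ⧸ I) := by
  classical
  obtain ⟨r, e, g, hg, hgen⟩ := hG
  have hG : IsFG G := ⟨r, e, g, hg, hgen⟩
  obtain ⟨t, a, ha⟩ := Submodule.fg_iff_exists_fin_generating_family.1 (IsNoetherian.noetherian I)
  let q : Fin t × Fin r ≃ Fin (t * r) := finProdFinEquiv
  let e' : Fin (t * r) → ℤ := fun x => e (q.symm x).2
  let g' : Fin (t * r) → N := fun x => a (q.symm x).1 • g (q.symm x).2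
  let h : Fin t → Fin (t * r) → N := fun k x => if (q.symm x).1 = k then g (q.symm x).2 else 0
  have hh : ∀ k x, h k x ∈ G.piece (-e' x) := fun k x => by
    simp only [h, e']
    split_ifs
    · exact hg _
    · exact zero_mem _
  have hg' : ∀ x, g' x ∈ G.piece (-e' x) := fun x => Submodule.smul_mem _ _ (hg _)
  let J : Grading R ι N := spanGrading (R := R) (ι := ι) e' g'
  have hJ : IsHom J G LinearMap.id := spanGrading_le G e' g' hg'
  have hsum : ∀ f : Fin (t * r) → MvPolynomial ι R,
      genMap (R := R) (ι := ι) g' f = ∑ k, a k • genMap (R := R) (ι := ι) (h k) f := fun f => by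
    simp only [genMap, Fintype.linearCombination_apply, Finset.smul_sum]
    rw [Finset.sum_comm]
    refine Finset.sum_congr rfl fun x _ => ?_
    rw [Finset.sum_eq_single (q.symm x).1 (fun k _ hk => by simp [h, Ne.symm hk]) (fun hn => absurd (Finset.mem_univ _) hn)]
    simp only [g', h, if_true]
    exact smul_comm _ _ _
  have hJgen := isFG_spanGrading (R := R) (ι := ι) e' g'
  obtain ⟨d₁, hd₁⟩ := exists_isZero_all G hG
  obtain ⟨d₂, hd₂⟩ := exists_isZero_all J hJgen
  obtain ⟨d₃, hd₃⟩ := exists_isZero_all (kerGrading (R := R) (ι := ι) e' g') (kerGrading_isFG e' g')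
  refine ⟨max d₁ (max d₂ d₃), fun d hd => ?_⟩
  simp only [max_le_iff] at hd
  let L := locSys G d
  let j := sysMap J G LinearMap.id hJ d
  let Q := cokerSys j
  have hE := exact3_quot G J hJ d
  have hrange : ∀ s : Finset ι, LinearMap.range (j.app s).hom = I • (⊤ : Submodule R (L.obj s)) := fun s => by
    refine le_antisymm ?_ ?_
    · rintro _ ⟨(z : locPiece J d s), rfl⟩
      obtain ⟨m, _, ⟨f, hf, rfl⟩, hz⟩ := z.2
      have h1 : (j.app s).hom z = ∑ k, a k • (⟨frac s (genMap (R := R) (ι := ι) (h k) f) m, m, _,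
          genMap_isHom G e' (h k) (hh k) _ f hf, rfl⟩ : locPiece G d s) := by
        refine Subtype.ext ?_
        show locMap LinearMap.id s (z : Loc R N s) = _
        rw [hz, locMap_frac, Submodule.coe_sum]
        simp only [Submodule.coe_smul, smul_frac]
        show frac s (genMap (R := R) (ι := ι) g' f) m = _
        rw [hsum, frac_sum]
      rw [h1]
      exact Submodule.sum_mem _ fun k _ => Submodule.smul_mem_smul (ha ▸ Submodule.subset_span ⟨k, rfl⟩) trivial
    · rw [Submodule.smul_le]
      intro x hx (z : locPiece G d s) _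
      rw [← ha] at hx
      induction hx using Submodule.span_induction with
      | mem x hx =>
        obtain ⟨k, rfl⟩ := hx
        obtain ⟨m, y, hy, hz⟩ := z.2
        obtain ⟨f, hf, hfy⟩ := hgen _ y hy
        let f' : Fin (t * r) → MvPolynomial ι R := fun x => if (q.symm x).1 = k then f (q.symm x).2 else 0
        have hf' : f' ∈ (freeGrading R (Fin (t * r)) e').piece (d + m * (s.card : ℤ)) := fun x n hn => by
          simp only [f'] at hn
          split_ifs at hn
          · exact hf _ n hn
          · exact absurd (coeff_zero n) hn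
        have hgf : genMap (R := R) (ι := ι) g' f' = a k • y := by
          rw [← hfy]
          simp only [genMap, Fintype.linearCombination_apply, Finset.smul_sum]
          rw [← q.sum_comp, Fintype.sum_prod_type, Finset.sum_eq_single k
            (fun k' _ hk => by simp [f', hk]) (fun hn => absurd (Finset.mem_univ _) hn)]
          refine Finset.sum_congr rfl fun l _ => ?_
          simp only [f', g', Equiv.symm_apply_apply, if_true]
          exact smul_comm _ _ _
        refine ⟨(⟨frac s (a k • y) m, m, _, ⟨f', hf', hgf⟩, rfl⟩ : locPiece J d s), Subtype.ext ?_⟩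
        show locMap LinearMap.id s (frac s (a k • y) m) = a k • (z : Loc R N s)
        rw [hz, locMap_frac, smul_frac]
        rfl
      | zero => rw [zero_smul]; exact zero_mem _
      | add x x' _ _ hx hx' => rw [add_smul]; exact add_mem hx hx'
      | smul c x _ hx => rw [smul_assoc]; exact Submodule.smul_mem _ _ hx
  let θ : ∀ i, (R ⧸ I) ⊗[R] Yc L (i + 1) ≃ₗ[R] Yc Q (i + 1) := fun i =>
    TensorProduct.piRight R R (R ⧸ I) (fun J : Fin (i + 1) → ι => L.obj (rng J)) ≪≫ₗ
      LinearEquiv.piCongrRight fun J =>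
        TensorProduct.quotTensorEquivQuotSMul (L.obj (rng J)) I ≪≫ₗ Submodule.quotEquivOfEq _ _ (hrange (rng J)).symm
  have hθ : ∀ i (x : R) (c : Yc L (i + 1)), θ i (Ideal.Quotient.mk I x ⊗ₜ c) = x • mapY (cokerπ j) (i + 1) c :=
    fun i x c => by
      funext J
      show Submodule.quotEquivOfEq _ _ (hrange (rng J)).symm
        (TensorProduct.quotTensorEquivQuotSMul (L.obj (rng J)) I (Ideal.Quotient.mk I x ⊗ₜ c J)) = _
      rw [TensorProduct.quotTensorEquivQuotSMul_mk_tmul, Submodule.quotEquivOfEq_mk]
      show Submodule.Quotient.mk (x • c J) = _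
      rw [Submodule.Quotient.mk_smul]
      rfl
  refine exT_of_iso L Q (R ⧸ I) θ (fun i x => ?_) (fun p => ?_) (fun c => ?_) ?_
  · induction x with
    | zero => simp
    | add x y hx hy => simp only [map_add, hx, hy]
    | tmul b c =>
      obtain ⟨x, rfl⟩ := Ideal.Quotient.mk_surjective b
      simp only [LinearMap.lTensor_tmul, hθ, map_smul]
      exact congrArg (x • ·) (mapY_dY _ _ _)
  · exact isZero_right hE (p + 1) (hd₁ d hd.1 p) (hd₂ d hd.2.1 (p + 1))
  · obtain ⟨z, hz⟩ := exists_Z0_lift hE (hd₂ d hd.2.1 0) c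
    refine ⟨(Ideal.Quotient.mk I 1) ⊗ₜ z, ?_⟩
    rw [LinearMap.lTensor_tmul, hθ, one_smul]
    exact hz
  · refine (injective_iff_map_eq_zero _).2 fun x hx => ?_
    obtain ⟨z, rfl⟩ : ∃ z : Z0 L, (Ideal.Quotient.mk I 1) ⊗ₜ z = x := by
      clear hx
      induction x with
      | zero => exact ⟨0, tmul_zero _ _⟩
      | add x y hx hy =>
        obtain ⟨z, rfl⟩ := hx
        obtain ⟨z', rfl⟩ := hy
        exact ⟨z + z', tmul_add _ _ _⟩
      | tmul b c =>
        obtain ⟨b, rfl⟩ := Ideal.Quotient.mk_surjective b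
        exact ⟨b • c, by rw [← TensorProduct.smul_tmul]; congr 1; rw [Algebra.smul_def]; simp⟩
    have hzero : ∀ J : Fin 1 → ι, ∃ w, (j.app (rng J)).hom w = z.1 J := fun J => by
      have h1 := congrFun ((hθ 0 1 z.1).symm.trans ((congrArg (θ 0) hx).trans (map_zero _))) J
      rw [one_smul] at h1
      exact (Submodule.Quotient.mk_eq_zero _).1 h1
    choose w hw using hzero
    have hw' : mapY j 1 w = z.1 := funext hw
    have hwZ : w ∈ Z0 (locSys J d) := LinearMap.mem_ker.2 (funext fun K => hE.inj _ (rng_nonempty K) (by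
      refine (congrFun ((mapY_dY j 1 w).trans ((congrArg _ hw').trans z.2)) K).trans ?_
      exact (map_zero _).symm))
    obtain ⟨f, hf⟩ := exists_Z0_lift (exact3_sys (grExact_gen J e' g'
      (fun k => ⟨Pi.single k 1, single_mem_free e' k, by
        show genMap (R := R) (ι := ι) g' (Pi.single k 1) = g' k
        rw [genMap, Fintype.linearCombination_apply_single, one_smul]⟩) (fun _ _ hy => hy)) d) (hd₃ d hd.2.2 0) ⟨w, hwZ⟩
    have hz : z = ∑ k, a k • mapZ (sysMap (freeGrading R (Fin (t * r)) e') G (genMap (R := R) (ι := ι) (h k))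
        (genMap_isHom G e' (h k) (hh k)) d) f := by
      refine Subtype.ext ((hw'.symm.trans (congrArg (mapY j 1) hf.symm)).trans ?_)
      rw [Submodule.coe_sum]
      funext K
      rw [Finset.sum_apply]
      let v : locPiece (freeGrading R (Fin (t * r)) e') d (rng K) := f.1 K
      obtain ⟨m, y, -, hy⟩ := v.2
      refine Subtype.ext (Eq.trans ?_ (map_sum (locPiece G d (rng K)).subtype _ _).symm)
      show locMap LinearMap.id (rng K) (locMap (genMap (R := R) (ι := ι) g') (rng K) (v : Loc R _ (rng K))) =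
        ∑ k, a k • locMap (genMap (R := R) (ι := ι) (h k)) (rng K) (v : Loc R _ (rng K))
      simp only [hy, locMap_frac, smul_frac, hsum, frac_sum, map_sum]
      rfl
    rw [hz, tmul_sum]
    refine Finset.sum_eq_zero fun k _ => ?_
    rw [← TensorProduct.smul_tmul, Algebra.smul_def, Ideal.Quotient.algebraMap_eq,
      Ideal.Quotient.eq_zero_iff_mem.2 (ha ▸ Submodule.subset_span ⟨k, rfl⟩), zero_mul, zero_tmul]

end StratLib
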