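import Groth.Agent.StratLib.Graded
import Groth.Agent.PnCohLib.Twist
import Groth.Agent.PnCohLib.Global
import Groth.Agent.GrTildeLib.Gamma
import Groth.Agent.QCohLib.AffineFinite
import Groth.Agent.FlatLib.GenericFree

/-!
# A finitely generated graded model of a coherent module on projective space
-/

set_option autoImplicit false

universe u

open CategoryTheory CategoryTheory.Limits AlgebraicGeometry MvPolynomial TopologicalSpace
open GrTildeLib GradedCechLib PnTildeLib

noncomputable section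

namespace StratLib

variable {n : ℕ} {R : Type u} [CommRing R]

section Gens

variable {N : Type u} [AddCommGroup N] [Module (Poly n R) N] [Module R N] [IsScalarTower R (Poly n R) N]
  (ℳ : ℕ → Submodule R N)

/-- The natural grading read on the integers, restricted to a finitely generated part. -/
theorem exists_fg_sub [SetLike.GradedSMul (CohB1.polyGrading n R) ℳ]
    {r : ℕ} (e : Fin r → ℕ) (z : Fin r → N) (hz : ∀ k, z k ∈ ℳ (e k))
    (h : ∀ (i : Fin (n + 1)) (d : ℕ), ∀ y ∈ ℳ d, ∃ k : ℕ,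
      (X i : Poly n R) ^ k • y ∈ (spanGrading (R := R) (ι := Fin (n + 1)) (fun l => -(e l : ℤ)) z).piece (d + k : ℤ)) :
    ∃ (G : Grading R (Fin (n + 1)) N) (hG : IsHom G (posGrading (n := n) ℳ) LinearMap.id), IsFG G ∧
      ∀ (t : ℤ) (s : Finset (Fin (n + 1))), s.Nonempty →
        Function.Bijective ((sysMap G (posGrading (n := n) ℳ) LinearMap.id hG t).app s).hom := by
  let G := spanGrading (R := R) (ι := Fin (n + 1)) (fun l => -(e l : ℤ)) z
  have hG : IsHom G (posGrading (n := n) ℳ) LinearMap.id := by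
    refine spanGrading_le (posGrading (n := n) ℳ) _ z fun k => ?_
    rw [neg_neg, posGrading_piece_natCast]
    exact hz k
  refine ⟨G, hG, isFG_spanGrading _ z, fun t s hs => ⟨fun a b hab => Subtype.ext ?_, fun w => ?_⟩⟩
  · exact LocalizedModule.map_injective _ (LinearMap.id : N →ₗ[Poly n R] N) Function.injective_id
      (congrArg Subtype.val hab)
  · obtain ⟨m, y, hy, hw⟩ := w.2
    rcases mem_posGrading (n := n) ℳ hy with ⟨hy', hd⟩ | hy'
    · obtain ⟨i, hi⟩ := hs
      obtain ⟨k, hk⟩ := h i _ y hy'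
      rw [Int.toNat_of_nonneg hd] at hk
      obtain ⟨c, hc⟩ := Finset.dvd_prod_of_mem (fun j => (X j : Poly n R)) hi
      have hmem : xs R s ^ k • y ∈ G.piece (t + ((m + k : ℕ) : ℤ) * (s.card : ℤ)) := by
        have e1 : xs R s = X i * xs R (s.erase i) := (Finset.mul_prod_erase s (fun j => (X j : Poly n R)) hi).symm
        rw [e1, mul_pow, mul_comm ((X i : Poly n R) ^ k) _, mul_smul]
        refine pow_xs_smul_mem G (s.erase i) k hk ?_
        have h1 : ((s.erase i).card : ℤ) = s.card - 1 := by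
          rw [Finset.card_erase_of_mem hi, Nat.cast_sub (Finset.card_pos.2 ⟨i, hi⟩)]
          simp
        rw [h1]; push_cast; ring
      refine ⟨(⟨frac s (xs R s ^ k • y) (m + k), m + k, _, hmem, rfl⟩ : locPiece G t s), Subtype.ext ?_⟩
      show locMap LinearMap.id s (frac s (xs R s ^ k • y) (m + k)) = w.1
      rw [locMap_frac, hw]
      exact frac_mul s y m k
    · refine ⟨0, Subtype.ext ?_⟩
      rw [map_zero, hw, hy']
      exact (LocalizedModule.zero_mk _).symm

end Gens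

section GrDataGens

variable {A : Type u} [CommRing A] [Algebra R A] {𝒜 : ℕ → Submodule R A} [GradedAlgebra 𝒜]
  {ι : Type u} {g : ι → A} {hg : ∀ i, g i ∈ 𝒜 1} {F : (Proj 𝒜).Modules}
  {M : Type u} [AddCommGroup M] [Module R M] [Module A M] {ℳ : ℕ → Submodule R M} [SetLike.GradedSMul 𝒜 ℳ]
  [DirectSum.Decomposition ℳ]

/-- Homogeneous elements are combinations of lifts of chart generators, up to a power of the coordinate. -/
theorem exists_pow_smul_eq_sum (D : GrTildeLib.GrData hg F ℳ) (i : ι)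
    (hker : ∀ (k : ℕ) (w : ℳ k), D.ν k w i = 0 → ∃ N : ℕ, g i ^ N • (w : M) = 0)
    {r : ℕ} (τ : Fin r → Γ(F, Proj.basicOpen 𝒜 (g i)))
    (hτ : Submodule.span Γ(Proj 𝒜, Proj.basicOpen 𝒜 (g i)) (Set.range τ) = ⊤)
    (e : Fin r → ℕ) (z : ∀ l, ℳ (e l)) (hz : ∀ l, D.ν (e l) (z l) i = τ l) (d : ℕ) (y : M) (hy : y ∈ ℳ d) :
    ∃ (k : ℕ) (f : Fin r → A), (∀ l, e l ≤ d + k ∧ f l ∈ 𝒜 (d + k - e l)) ∧
      g i ^ k • y = ∑ l, f l • (z l : M) := by
  classical
  obtain ⟨c, hc⟩ := (Submodule.mem_span_range_iff_exists_fun _).1 (hτ.ge (Submodule.mem_top (x := D.ν d ⟨y, hy⟩ i)))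
  choose kk a ha hca using fun l => ProjClosedLib.fr_surjective 𝒜 (hg i) (c l)
  let T := ∑ l, (kk l + e l)
  have hle : ∀ l, kk l + e l ≤ T := fun l =>
    Finset.single_le_sum (f := fun l => kk l + e l) (fun _ _ => Nat.zero_le _) (Finset.mem_univ l)
  let b : Fin r → A := fun l => g i ^ (d + T - (kk l + e l)) * a l
  have hpow : ∀ j : ℕ, g i ^ j ∈ 𝒜 j := fun j => by simpa using SetLike.pow_mem_graded j (hg i)
  have hb : ∀ l, b l ∈ 𝒜 (d + T - e l) := fun l => by
    have := SetLike.mul_mem_graded (hpow (d + T - (kk l + e l))) (ha l)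
    rwa [show d + T - (kk l + e l) + kk l = d + T - e l by have := hle l; omega] at this
  have hterm : ∀ l, b l • (z l : M) ∈ ℳ (d + T) := fun l => by
    have := SetLike.GradedSMul.smul_mem (A := 𝒜) (B := ℳ) (hb l) (z l).2
    rwa [vadd_eq_add, show d + T - e l + e l = d + T by have := hle l; omega] at this
  have hMy : g i ^ T • y ∈ ℳ (d + T) := by
    have := SetLike.GradedSMul.smul_mem (A := 𝒜) (B := ℳ) (hpow T) hy
    rwa [vadd_eq_add, add_comm T d] at this
  have hfr : ∀ j (h : g i ^ j ∈ 𝒜 j), ProjClosedLib.fr 𝒜 (hg i) h = 1 := fun j h => ProjClosedLib.fr_one _ _ h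
  have hnu : ∀ (l k' d' : ℕ) (aa : A) (haa : aa ∈ 𝒜 l) (w : ℳ k') (_ : l + k' = d')
      (hw : aa • (w : M) ∈ ℳ d'), D.ν d' ⟨_, hw⟩ i = ProjClosedLib.fr 𝒜 (hg i) haa • D.ν k' w i := by
    intro l k' d' aa haa w he hw
    subst he
    exact D.smul l k' aa haa w hw i
  let W : ℳ (d + T) := ⟨g i ^ T • y, hMy⟩ - ∑ l, ⟨_, hterm l⟩
  have hW : D.ν (d + T) W i = 0 := by
    rw [map_sub, Pi.sub_apply, map_sum, Finset.sum_apply, hnu T d _ _ (hpow T) ⟨y, hy⟩ (add_comm T d) hMy, hfr, one_smul,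
      sub_eq_zero, ← hc]
    refine Finset.sum_congr rfl fun l _ => ?_
    rw [hnu _ _ _ _ (hb l) (z l) (by have := hle l; omega) (hterm l), hz, ← hca]
    refine congrArg (· • τ l) ?_
    have h1 := ProjClosedLib.fr_mul 𝒜 (hg i) (hpow (d + T - (kk l + e l))) (ha l)
    rw [hfr, one_mul] at h1
    refine h1.symm.trans ?_
    congr 1
    have := hle l; omega
  obtain ⟨K, hK⟩ := hker _ W hW
  refine ⟨K + T, fun l => g i ^ K * b l, fun l => ⟨by have := hle l; omega, ?_⟩, ?_⟩
  · have := SetLike.mul_mem_graded (hpow K) (hb l)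
    rwa [show K + (d + T - e l) = d + (K + T) - e l by have := hle l; omega] at this
  · have h1 : (W : M) = g i ^ T • y - ∑ l, b l • (z l : M) := by simp [W]
    rw [h1, smul_sub, Finset.smul_sum, sub_eq_zero, smul_smul, ← pow_add] at hK
    exact hK.trans (Finset.sum_congr rfl fun l _ => smul_smul _ _ _)

end GrDataGens

/-- A finitely generated graded module reading the sections of all twists. -/
theorem exists_model (F : (CohB1.ProjSpace n R).Modules) (hF : Coh.IsQCoh F) (hft : CohB1.IsFT F) :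
    ∃ (N : Type u) (_ : AddCommGroup N) (_ : Module (Poly n R) N) (_ : Module R N) (_ : IsScalarTower R (Poly n R) N)
      (G : Grading R (Fin (n + 1)) N), IsFG G ∧ ∀ t : ℤ,
        ∃ φ : locSys G t ⟶ secSys (CohB1.tensorMod F (Twist.twistProjSpace n R t)),
          ∀ s : Finset (Fin (n + 1)), s.Nonempty → Function.Bijective (φ.app s).hom := by
  classical
  let g : ULift.{u} (Fin (n + 1)) → Poly n R := fun i => X i.down
  have hg : ∀ i, g i ∈ CohB1.polyGrading n R 1 := fun i => GradedCechLib.X_mem n R i.down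
  have hcov : ∀ x : Proj (CohB1.polyGrading n R), ∃ i, x ∈ Proj.basicOpen (CohB1.polyGrading n R) (g i) := fun x => by
    obtain ⟨i, hi⟩ := Opens.mem_iSup.1 ((QCohLib.iSup_stdOpen n R).ge (Opens.mem_top x))
    exact ⟨⟨i⟩, hi⟩
  let F' : (Proj (CohB1.polyGrading n R)).Modules := F
  haveI : Coh.IsQCoh F' := hF
  obtain ⟨e₀⟩ := GrTildeLib.exists_iso (GrTildeLib.data hg F') hcov
    (fun k z i h => GrTildeLib.exists_pow_smul_eq_zero' hg F' i z h)
    (fun i => eq_top_iff.mpr fun w _ => Submodule.subset_span (GrTildeLib.exists_of_nu hg F' i w))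
  let D := GrTildeLib.data hg F'
  have hgen : ∀ i, ∃ (r : ℕ) (τ : Fin r → Γ(F', Proj.basicOpen (CohB1.polyGrading n R) (g i))),
      Submodule.span Γ(Proj (CohB1.polyGrading n R), Proj.basicOpen (CohB1.polyGrading n R) (g i)) (Set.range τ) = ⊤ :=
    fun i => by
      haveI := QCohLib.finite_of_isFT (M := F') hft (Proj.isAffineOpen_basicOpen _ _ (hg i) one_pos)
      exact Module.Finite.exists_fin
  choose r τ hτ using hgen
  choose e z hz using fun i l => GrTildeLib.exists_of_nu hg F' i (τ i l)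
  let κ := Σ i, Fin (r i)
  let q : κ ≃ Fin (Fintype.card κ) := Fintype.equivFin κ
  let e' : Fin (Fintype.card κ) → ℕ := fun x => e (q.symm x).1 (q.symm x).2
  let z' : Fin (Fintype.card κ) → GrTildeLib.Gam hg F' := fun x => (z (q.symm x).1 (q.symm x).2 : GrTildeLib.Gam hg F')
  have hkey : ∀ (i : Fin (n + 1)) (d : ℕ), ∀ y ∈ GrTildeLib.gr hg F' d, ∃ k : ℕ,
      (X i : Poly n R) ^ k • y ∈ (spanGrading (R := R) (ι := Fin (n + 1)) (fun l => -(e' l : ℤ)) z').piece (d + k : ℤ) := by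
    intro i d y hy
    obtain ⟨k, f, hf, hsum⟩ := exists_pow_smul_eq_sum D ⟨i⟩
      (fun k w hw => GrTildeLib.exists_pow_smul_eq_zero' hg F' ⟨i⟩ w hw) (τ ⟨i⟩) (hτ ⟨i⟩) (e ⟨i⟩) (z ⟨i⟩) (hz ⟨i⟩) d y hy
    refine ⟨k, ?_⟩
    rw [show (X i : Poly n R) ^ k • y = ∑ l, f l • (z ⟨i⟩ l : GrTildeLib.Gam hg F') from hsum]
    refine Submodule.sum_mem _ fun l _ => ?_
    refine Submodule.mem_map.2 ⟨Pi.single (q ⟨⟨i⟩, l⟩) (f l), ?_, ?_⟩
    · intro x a hcoef
      rcases eq_or_ne x (q ⟨⟨i⟩, l⟩) with rfl | hx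
      · rw [Pi.single_eq_same] at hcoef
        have hd := (hf l).2 hcoef
        have := (hf l).1
        rw [Finsupp.weight_apply] at hd
        simp only [Pi.one_apply, smul_eq_mul, mul_one] at hd
        rw [Finsupp.sum_fintype _ _ (fun _ => rfl)] at hd
        have he : e' (q ⟨⟨i⟩, l⟩) = e ⟨i⟩ l := congrArg (fun x : κ => e x.1 x.2) (q.symm_apply_apply _)
        simp only []; rw [he, ← Nat.cast_sum, hd]
        omega
      · rw [Pi.single_eq_of_ne hx] at hcoef
        exact absurd (MvPolynomial.coeff_zero a) hcoef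
    · show genMap z' (Pi.single (q ⟨⟨i⟩, l⟩) _) = _
      rw [genMap, Fintype.linearCombination_apply_single]
      exact congrArg (fun x : κ => f l • (z x.1 x.2 : GrTildeLib.Gam hg F')) (q.symm_apply_apply _)
  obtain ⟨G, hG, hFG, hbij⟩ := exists_fg_sub (GrTildeLib.gr hg F') e' z' (fun x => (z _ _).2) hkey
  refine ⟨GrTildeLib.Gam hg F', inferInstance, inferInstance, inferInstance, inferInstance, G, hFG, fun t => ?_⟩
  obtain ⟨e₁⟩ := GrTildeLib.twistBy_iso (𝒜 := CohB1.polyGrading n R) (ℳ := GrTildeLib.gr hg F') (p := 0) (n := t)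
    (zero_add t) (PnTildeLib.hcov (n := n) (k := R))
  let ee : CohB1.tensorMod F (Twist.twistProjSpace n R t) ≅ tl (n := n) (GrTildeLib.gr hg F') t :=
    (PicGrp.tensorModIso e₀.symm (Iso.refl (Twist.twistProjSpace n R t))).trans e₁
  refine ⟨sysMap G _ LinearMap.id hG t ≫ toSys (GrTildeLib.gr hg F') t ≫ PnCohLib.secMap ee.inv, fun s hs => ?_⟩
  exact (PnCohLib.secMap_bijective ee.inv s).comp ((toSys_bijective _ t s hs).comp (hbij t s hs))

end StratLib
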