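import Mathlib

/-!
# Complexes with flat terms after the first which stay exact after tensoring
-/

set_option autoImplicit false

universe u

open TensorProduct

noncomputable section

namespace StratLib

variable {R : Type u} [CommRing R] (Y : ℕ → Type u) [∀ j, AddCommGroup (Y j)] [∀ j, Module R (Y j)]
  (d : ∀ j, Y j →ₗ[R] Y (j + 1))

/-- Exactness everywhere of the complex tensored with `M`. -/
def ExT (M : Type u) [AddCommGroup M] [Module R M] : Prop :=
  Function.Injective ((d 0).lTensor M) ∧ ∀ j, Function.Exact ((d j).lTensor M) ((d (j + 1)).lTensor M)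

variable {Y d}

theorem lTensor_rTensor_comm {M M' N N' : Type u} [AddCommGroup M] [Module R M] [AddCommGroup M'] [Module R M']
    [AddCommGroup N] [Module R N] [AddCommGroup N'] [Module R N'] (f : M →ₗ[R] M') (g : N →ₗ[R] N') (x : M ⊗[R] N) :
    g.lTensor M' (f.rTensor N x) = f.rTensor N' (g.lTensor M x) := by
  rw [← LinearMap.comp_apply, LinearMap.lTensor_comp_rTensor, ← LinearMap.rTensor_comp_lTensor, LinearMap.comp_apply]

theorem dd_lTensor (hdd : ∀ j, (d (j + 1)).comp (d j) = 0) (M : Type u) [AddCommGroup M] [Module R M] (j : ℕ)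
    (x : M ⊗[R] Y j) : (d (j + 1)).lTensor M ((d j).lTensor M x) = 0 := by
  rw [← LinearMap.comp_apply, ← LinearMap.lTensor_comp, hdd, LinearMap.lTensor_zero, LinearMap.zero_apply]

theorem ExT.of_subsingleton (M : Type u) [AddCommGroup M] [Module R M] [Subsingleton M] : ExT Y d M :=
  ⟨fun _ _ _ => Subsingleton.elim _ _, fun _ x => ⟨fun _ => ⟨0, Subsingleton.elim _ _⟩, fun _ => Subsingleton.elim _ _⟩⟩

theorem ExT.congr {M M' : Type u} [AddCommGroup M] [Module R M] [AddCommGroup M'] [Module R M'] (e : M ≃ₗ[R] M')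
    (h : ExT Y d M) : ExT Y d M' := by
  have hc : ∀ j x, (d j).lTensor M' (e.toLinearMap.rTensor (Y j) x) = e.toLinearMap.rTensor (Y (j + 1)) ((d j).lTensor M x) :=
    fun j x => lTensor_rTensor_comm _ _ _
  have hb : ∀ j, Function.Bijective (e.toLinearMap.rTensor (Y j)) := fun j => (e.rTensor (Y j)).bijective
  refine ⟨fun a b hab => ?_, fun j y => ?_⟩
  · obtain ⟨a, rfl⟩ := (hb 0).2 a
    obtain ⟨b, rfl⟩ := (hb 0).2 b
    rw [hc, hc] at hab
    exact congrArg _ (h.1 ((hb 1).1 hab))
  · obtain ⟨y, rfl⟩ := (hb (j + 1)).2 y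
    rw [hc, map_eq_zero_iff _ (hb (j + 2)).1, h.2 j y]
    constructor
    · rintro ⟨x, rfl⟩
      exact ⟨_, hc j x⟩
    · rintro ⟨x, hx⟩
      obtain ⟨x, rfl⟩ := (hb j).2 x
      rw [hc] at hx
      exact ⟨x, (hb (j + 1)).1 hx⟩

/-- Extensions keep exactness. -/
theorem ExT.extension (hdd : ∀ j, (d (j + 1)).comp (d j) = 0) (hflat : ∀ j, Module.Flat R (Y (j + 1)))
    {M' M M'' : Type u} [AddCommGroup M'] [Module R M'] [AddCommGroup M] [Module R M] [AddCommGroup M''] [Module R M'']
    (i : M' →ₗ[R] M) (p : M →ₗ[R] M'') (hi : Function.Injective i) (hex : Function.Exact i p)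
    (hp : Function.Surjective p) (h' : ExT Y d M') (h'' : ExT Y d M'') : ExT Y d M := by
  have hinj : ∀ j, Function.Injective (i.rTensor (Y (j + 1))) := fun j =>
    haveI := hflat j
    Module.Flat.rTensor_preserves_injective_linearMap i hi
  refine ⟨(injective_iff_map_eq_zero _).2 fun x hx => ?_, fun j x => ⟨fun hx => ?_, ?_⟩⟩
  · have h1 : p.rTensor (Y 0) x = 0 := h''.1 (by rw [lTensor_rTensor_comm, hx, map_zero, map_zero])
    obtain ⟨y, rfl⟩ := (rTensor_exact (Y 0) hex hp x).1 h1
    rw [lTensor_rTensor_comm] at hx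
    rw [h'.1 ((hinj 0 (hx.trans (map_zero _).symm)).trans (map_zero _).symm), map_zero]
  · obtain ⟨w, hw⟩ := (h''.2 j (p.rTensor (Y (j + 1)) x)).1 (by rw [lTensor_rTensor_comm, hx, map_zero])
    obtain ⟨w, rfl⟩ := LinearMap.rTensor_surjective (Y j) hp w
    obtain ⟨z, hz⟩ := (rTensor_exact (Y (j + 1)) hex hp (x - (d j).lTensor M w)).1 (by
      rw [map_sub, ← lTensor_rTensor_comm, hw, sub_self])
    obtain ⟨v, rfl⟩ := (h'.2 j z).1 (hinj (j + 1) (by
      rw [← lTensor_rTensor_comm, hz, map_sub, hx, dd_lTensor hdd, sub_zero, map_zero]))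
    refine ⟨w + i.rTensor (Y j) v, ?_⟩
    rw [map_add, lTensor_rTensor_comm, hz, add_sub_cancel]
  · rintro ⟨w, rfl⟩
    exact dd_lTensor hdd M j w

theorem ExT.of_flat (h : ExT Y d R) (F : Type u) [AddCommGroup F] [Module R F] [Module.Flat R F] : ExT Y d F := by
  have hc : ∀ j x, (TensorProduct.lid R (Y (j + 1))) ((d j).lTensor R x) = d j (TensorProduct.lid R (Y j) x) := fun j x => by
    induction x with
    | zero => simp
    | tmul r y => simp
    | add x y hx hy => simp [map_add, hx, hy]
  have h0 : Function.Injective (d 0) := fun a b hab => by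
    obtain ⟨a, rfl⟩ := (TensorProduct.lid R (Y 0)).surjective a
    obtain ⟨b, rfl⟩ := (TensorProduct.lid R (Y 0)).surjective b
    rw [← hc, ← hc] at hab
    exact congrArg _ (h.1 ((TensorProduct.lid R (Y 1)).injective hab))
  have h1 : ∀ j, Function.Exact (d j) (d (j + 1)) := fun j =>
    Function.Exact.of_ladder_linearEquiv_of_exact (e₁ := TensorProduct.lid R (Y j))
      (e₂ := TensorProduct.lid R (Y (j + 1))) (e₃ := TensorProduct.lid R (Y (j + 2)))
      (LinearMap.ext fun x => (hc j x).symm) (LinearMap.ext fun x => (hc (j + 1) x).symm) (h.2 j)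
  exact ⟨Module.Flat.lTensor_preserves_injective_linearMap _ h0, fun j => Module.Flat.lTensor_exact _ (h1 j)⟩

theorem ExT.free {ι : Type u} (h : ExT Y d R) : ExT Y d (ι →₀ R) := h.of_flat _

theorem exists_rTensor_preimage {M' M M'' N : Type u} [AddCommGroup M'] [Module R M'] [AddCommGroup M] [Module R M]
    [AddCommGroup M''] [Module R M''] [AddCommGroup N] [Module R N] {i : M' →ₗ[R] M} {p : M →ₗ[R] M''}
    (hex : Function.Exact i p) (hp : Function.Surjective p) {x : M ⊗[R] N} (hx : p.rTensor N x = 0) :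
    ∃ z, i.rTensor N z = x :=
  (rTensor_exact N hex hp x).1 hx

theorem exists_cover (hR : ExT Y d R) (M : Type u) [AddCommGroup M] [Module R M] :
    ∃ (K F : Type u) (_ : AddCommGroup K) (_ : Module R K) (_ : AddCommGroup F) (_ : Module R F)
      (i : K →ₗ[R] F) (p : F →ₗ[R] M), Function.Injective i ∧ Function.Exact i p ∧ Function.Surjective p ∧
        p.comp i = 0 ∧ ExT Y d F := by
  let p : (M →₀ R) →ₗ[R] M := Finsupp.linearCombination R id
  exact ⟨LinearMap.ker p, M →₀ R, inferInstance, inferInstance, inferInstance, inferInstance,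
    (LinearMap.ker p).subtype, p, Subtype.val_injective, LinearMap.exact_subtype_ker_map p,
    fun m => ⟨Finsupp.single m 1, by simp [p]⟩, LinearMap.ext fun v => v.2, hR.free⟩

/-- Exactness with free coefficients propagates to all coefficients when the high degrees are exact. -/
theorem ExT.descend (hdd : ∀ j, (d (j + 1)).comp (d j) = 0) (hflat : ∀ j, Module.Flat R (Y (j + 1))) (j₀ : ℕ)
    (htop : ∀ (M : Type u) [AddCommGroup M] [Module R M] (j : ℕ), j₀ ≤ j →
      Function.Exact ((d j).lTensor M) ((d (j + 1)).lTensor M))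
    (hR : ExT Y d R) (M : Type u) [AddCommGroup M] [Module R M] : ExT Y d M := by
  suffices H : ∀ (e : ℕ) (M : Type u) [AddCommGroup M] [Module R M] (j : ℕ), j₀ ≤ j + e →
      Function.Exact ((d j).lTensor M) ((d (j + 1)).lTensor M) by
    refine ⟨(injective_iff_map_eq_zero _).2 fun x hx => ?_, fun j => H j₀ M j (Nat.le_add_left _ _)⟩
    obtain ⟨K, F, _, _, _, _, i, p, hi, hex, hp, hpi, hF⟩ := exists_cover hR M
    haveI := hflat 1
    obtain ⟨y, rfl⟩ := LinearMap.rTensor_surjective (Y 0) hp x
    rw [lTensor_rTensor_comm] at hx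
    obtain ⟨z, hz⟩ := exists_rTensor_preimage hex hp hx
    obtain ⟨w, rfl⟩ := (H j₀ K 0 (Nat.le_add_left _ _) z).1
      (Module.Flat.rTensor_preserves_injective_linearMap (M := Y 2) i hi (by
        rw [← lTensor_rTensor_comm, hz, dd_lTensor hdd, map_zero]))
    rw [← lTensor_rTensor_comm] at hz
    rw [← hF.1 hz, ← LinearMap.comp_apply, ← LinearMap.rTensor_comp, hpi]
    simp
  intro e
  induction e with
  | zero => intro M _ _ j hj; exact htop M j (by omega)
  | succ e ih =>
    intro M _ _ j hj x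
    refine ⟨fun hx => ?_, ?_⟩
    · obtain ⟨K, F, _, _, _, _, i, p, hi, hex, hp, hpi, hF⟩ := exists_cover hR M
      haveI := hflat (j + 2)
      obtain ⟨y, rfl⟩ := LinearMap.rTensor_surjective (Y (j + 1)) hp x
      rw [lTensor_rTensor_comm] at hx
      obtain ⟨z, hz⟩ := exists_rTensor_preimage hex hp hx
      obtain ⟨w, rfl⟩ := (ih K (j + 1) (by omega) z).1
        (Module.Flat.rTensor_preserves_injective_linearMap (M := Y (j + 3)) i hi (by
          rw [← lTensor_rTensor_comm, hz, dd_lTensor hdd, map_zero]))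
      rw [← lTensor_rTensor_comm] at hz
      obtain ⟨v, hv⟩ := (hF.2 j (y - i.rTensor (Y (j + 1)) w)).1 (by rw [map_sub, hz, sub_self])
      refine ⟨p.rTensor (Y j) v, ?_⟩
      rw [lTensor_rTensor_comm, hv, map_sub, ← LinearMap.comp_apply, ← LinearMap.rTensor_comp, hpi]
      simp
    · rintro ⟨w, rfl⟩
      exact dd_lTensor hdd M j w

/-- Fibrewise exactness gives exactness with all finite coefficients over a Noetherian ring. -/
theorem ExT.of_residueField [IsNoetherianRing R] (hdd : ∀ j, (d (j + 1)).comp (d j) = 0)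
    (hflat : ∀ j, Module.Flat R (Y (j + 1))) [Module.Finite R (Y 0)]
    (hfib : ∀ p : PrimeSpectrum R, ExT Y d p.asIdeal.ResidueField) (I : Ideal R) : ExT Y d (R ⧸ I) := by
  refine IsNoetherian.induction (P := fun I : Ideal R => ExT Y d (R ⧸ I)) (fun (I : Ideal R) ih => ?_) I
  · by_cases htop : I = ⊤
    · haveI : Subsingleton (R ⧸ I) := Ideal.Quotient.subsingleton_iff.2 htop
      exact ExT.of_subsingleton _
    let mk : R →ₗ[R] R ⧸ I := I.mkQ
    let mul : ∀ c : R, (R ⧸ I) →ₗ[R] (R ⧸ I) := fun c => c • LinearMap.id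
    by_cases hprime : I.IsPrime
    · let K := I.ResidueField
      let i : (R ⧸ I) →ₗ[R] K := (IsScalarTower.toAlgHom R (R ⧸ I) K).toLinearMap
      have hi : Function.Injective i := I.injective_algebraMap_quotient_residueField
      haveI hloc : IsLocalizedModule I.primeCompl i := by
        refine ⟨fun s => ?_, fun y => ?_, fun {a b} hab => ⟨1, by rw [hi hab]⟩⟩
        · refine (Module.End.isUnit_iff _).2 ⟨fun a b hab => ?_, fun a => ?_⟩
          · have hs : algebraMap R K s.1 ≠ 0 := fun h0 => s.2 (Ideal.algebraMap_residueField_eq_zero.1 h0)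
            simp only [Module.algebraMap_end_apply, Algebra.smul_def] at hab
            exact mul_left_cancel₀ hs hab
          · have hs : algebraMap R K s.1 ≠ 0 := fun h0 => s.2 (Ideal.algebraMap_residueField_eq_zero.1 h0)
            exact ⟨(algebraMap R K s.1)⁻¹ * a, by
              rw [Module.algebraMap_end_apply, Algebra.smul_def, mul_inv_cancel_left₀ hs]⟩
        · obtain ⟨⟨a, b⟩, hab⟩ := IsLocalization.surj (nonZeroDivisors (R ⧸ I)) y
          obtain ⟨c, hc⟩ := Ideal.Quotient.mk_surjective b.1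
          refine ⟨⟨a, c, fun hcI => nonZeroDivisors.ne_zero b.2 (by rw [← hc, Ideal.Quotient.eq_zero_iff_mem]; exact hcI)⟩, ?_⟩
          show c • y = algebraMap (R ⧸ I) K a
          rw [← hab, Algebra.smul_def, IsScalarTower.algebraMap_apply R (R ⧸ I) K, mul_comm, Ideal.Quotient.algebraMap_eq, hc]
      have hlocT : ∀ j, IsLocalizedModule I.primeCompl (i.rTensor (Y j)) := fun j =>
        inferInstanceAs (IsLocalizedModule I.primeCompl (AlgebraTensorModule.rTensor R (Y j) i))
      have hmulc : ∀ (c : R) j (x : (R ⧸ I) ⊗[R] Y j), (mul c).rTensor (Y j) x = c • x := fun c j x => by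
        simp [mul, LinearMap.rTensor_smul]
      have hK := hfib ⟨I, hprime⟩
      have hinjK : ∀ j, Function.Injective (i.rTensor (Y (j + 1))) := fun j =>
        haveI := hflat j
        Module.Flat.rTensor_preserves_injective_linearMap i hi
      have hinjc : ∀ c, c ∉ I → ∀ j, Function.Injective (fun x : (R ⧸ I) ⊗[R] Y (j + 1) => c • x) := fun c hc j => by
        haveI := hflat j
        have h1 : Function.Injective (mul c) := fun a b hab => by
          obtain ⟨a, rfl⟩ := Ideal.Quotient.mk_surjective a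
          obtain ⟨b, rfl⟩ := Ideal.Quotient.mk_surjective b
          have h2 : Ideal.Quotient.mk I (c * (a - b)) = 0 := by
            rw [mul_sub, map_sub, sub_eq_zero]
            exact hab
          exact Ideal.Quotient.eq.2 ((hprime.mem_or_mem (Ideal.Quotient.eq_zero_iff_mem.1 h2)).resolve_left hc)
        have h3 := Module.Flat.rTensor_preserves_injective_linearMap (M := Y (j + 1)) (mul c) h1
        intro x y hxy
        exact h3 (by rw [hmulc, hmulc]; exact hxy)
      have hsmall : ∀ c, c ∉ I → ExT Y d (R ⧸ (I ⊔ Ideal.span {c})) := fun c hc =>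
        ih _ (lt_of_le_of_ne le_sup_left fun e => hc (e ▸ Ideal.mem_sup_right (Ideal.mem_span_singleton_self c)))
      let proj : ∀ c : R, (R ⧸ I) →ₗ[R] (R ⧸ (I ⊔ Ideal.span {c})) := fun c =>
        Submodule.mapQ I _ LinearMap.id (by simpa using (le_sup_left : I ≤ I ⊔ Ideal.span {c}))
      have hprojex : ∀ c, Function.Exact (mul c) (proj c) := fun c y => by
        obtain ⟨y, rfl⟩ := Submodule.mkQ_surjective I y
        refine ⟨fun hy => ?_, ?_⟩
        · obtain ⟨a, ha, b, hb, rfl⟩ := Submodule.mem_sup.1 ((Submodule.Quotient.mk_eq_zero _).1 hy)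
          obtain ⟨r, rfl⟩ := Ideal.mem_span_singleton'.1 hb
          refine ⟨Submodule.Quotient.mk r, ?_⟩
          show c • (Submodule.Quotient.mk r : R ⧸ I) = _
          rw [← Submodule.Quotient.mk_smul]
          refine (Submodule.Quotient.eq I).2 ?_
          have : c • r - (a + r * c) = -a := by rw [smul_eq_mul]; ring
          rw [this]
          exact neg_mem ha
        · rintro ⟨z, hz⟩
          obtain ⟨r, rfl⟩ := Submodule.mkQ_surjective I z
          rw [← hz]
          show (Submodule.Quotient.mk (c • r) : R ⧸ (I ⊔ Ideal.span {c})) = 0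
          rw [Submodule.Quotient.mk_eq_zero]
          exact Ideal.mem_sup_right (Ideal.mem_span_singleton'.2 ⟨r, mul_comm _ _⟩)
      have hprojs : ∀ c, Function.Surjective (proj c) := fun c y => by
        obtain ⟨r, rfl⟩ := Submodule.mkQ_surjective _ y
        exact ⟨Submodule.Quotient.mk r, rfl⟩
      have hzero : ∀ c, c ∉ I → ∀ x : (R ⧸ I) ⊗[R] Y 0, (d 0).lTensor _ x = 0 →
          ∃ x' : (R ⧸ I) ⊗[R] Y 0, (d 0).lTensor _ x' = 0 ∧ x = c • x' := fun c hc x hx => by
        have h0 : (proj c).rTensor (Y 0) x = 0 := (hsmall c hc).1 (by rw [lTensor_rTensor_comm, hx, map_zero, map_zero])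
        obtain ⟨x', rfl⟩ := (rTensor_exact (Y 0) (hprojex c) (hprojs c) x).1 h0
        rw [hmulc] at hx ⊢
        refine ⟨x', hinjc c hc 0 ?_, rfl⟩
        show c • _ = c • _
        rw [← map_smul, hx, smul_zero]
      refine ⟨?_, fun j x => ⟨fun hx => ?_, ?_⟩⟩
      · let H0 : Submodule R ((R ⧸ I) ⊗[R] Y 0) := LinearMap.ker ((d 0).lTensor (R ⧸ I))
        haveI : Module.Finite R H0 := Module.Finite.iff_fg.2 (IsNoetherian.noetherian H0)
        rw [← LinearMap.ker_eq_bot]
        show H0 = ⊥
        have htor : ∀ x ∈ H0, ∃ c, c ∉ I ∧ c • x = 0 := fun x hx => by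
          have h1 : i.rTensor (Y 0) x = 0 := hK.1 (by
            rw [lTensor_rTensor_comm, LinearMap.mem_ker.1 hx, map_zero, map_zero])
          haveI := hlocT 0
          obtain ⟨c, hc⟩ := (IsLocalizedModule.eq_zero_iff I.primeCompl (i.rTensor (Y 0))).1 h1
          exact ⟨c.1, c.2, hc⟩
        obtain ⟨S, hS⟩ := IsNoetherian.noetherian H0
        choose c hc hcx using fun x : S => htor x.1 (hS ▸ Submodule.subset_span x.2)
        let C := ∏ x : S, c x
        have hC : C ∉ I := fun hmem => by
          obtain ⟨x, -, hx⟩ := (hprime.prod_mem_iff).1 hmem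
          exact hc x hx
        have hkill : ∀ y ∈ H0, C • y = 0 := fun y hy => by
          rw [← hS] at hy
          induction hy using Submodule.span_induction with
          | mem y hy =>
            obtain ⟨r, hr⟩ : c ⟨y, hy⟩ ∣ C := Finset.dvd_prod_of_mem c (Finset.mem_univ _)
            rw [hr, mul_comm, mul_smul]
            show r • c ⟨y, hy⟩ • y = 0
            rw [show c ⟨y, hy⟩ • y = 0 from hcx ⟨y, hy⟩, smul_zero]
          | zero => simp
          | add a b _ _ ha hb => rw [smul_add, ha, hb, add_zero]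
          | smul r a _ ha => rw [smul_comm, ha, smul_zero]
        refine eq_bot_iff.2 fun x hx => ?_
        obtain ⟨x', hx'0, rfl⟩ := hzero C hC x (LinearMap.mem_ker.1 hx)
        exact (Submodule.mem_bot R).2 (hkill x' (LinearMap.mem_ker.2 hx'0))
      · haveI := hlocT (j + 1)
        have h1 : (d (j + 1)).lTensor K (i.rTensor _ x) = 0 := by rw [lTensor_rTensor_comm, hx, map_zero]
        obtain ⟨w, hw⟩ := (hK.2 j _).1 h1
        haveI := hlocT j
        obtain ⟨⟨w₀, c⟩, hc⟩ := IsLocalizedModule.surj I.primeCompl (i.rTensor (Y j)) w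
        have h2 : c.1 • x = (d j).lTensor _ w₀ := hinjK j (by
          rw [map_smul, ← hw, ← map_smul, ← lTensor_rTensor_comm]
          exact congrArg _ hc)
        have hw0 : (d j).lTensor _ ((proj c.1).rTensor (Y j) w₀) = 0 := by
          rw [lTensor_rTensor_comm, ← h2, map_smul, ← map_smul, ← hmulc]
          exact (rTensor_exact (Y (j + 1)) (hprojex c.1) (hprojs c.1)).apply_apply_eq_zero x
        suffices ∃ (v : (R ⧸ I) ⊗[R] Y j) (u : (R ⧸ I) ⊗[R] Y j), w₀ = u + c.1 • v ∧ (d j).lTensor _ u = 0 by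
          obtain ⟨v, u, rfl, hu⟩ := this
          refine ⟨v, (hinjc c.1 c.2 j ?_).symm⟩
          show c.1 • x = c.1 • _
          rw [h2, map_add, hu, zero_add, map_smul]
        rcases j with _ | j
        · obtain ⟨v, hv⟩ := (rTensor_exact (Y 0) (hprojex c.1) (hprojs c.1) w₀).1
            ((hsmall c.1 c.2).1 (hw0.trans (map_zero _).symm))
          exact ⟨v, 0, by rw [zero_add, ← hv, hmulc], map_zero _⟩
        · obtain ⟨u, hu⟩ := ((hsmall c.1 c.2).2 j _).1 hw0
          obtain ⟨u, rfl⟩ := LinearMap.rTensor_surjective (Y j) (hprojs c.1) u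
          obtain ⟨v, hv⟩ := (rTensor_exact (Y (j + 1)) (hprojex c.1) (hprojs c.1) (w₀ - (d j).lTensor _ u)).1 (by
            rw [map_sub, ← lTensor_rTensor_comm, hu, sub_self])
          exact ⟨v, (d j).lTensor _ u, by rw [← hmulc, hv, add_sub_cancel], dd_lTensor hdd _ j u⟩
      · rintro ⟨w, rfl⟩
        exact dd_lTensor hdd _ j w
    · obtain ⟨a, ha, b, hb, hab⟩ := (Ideal.not_isPrime_iff.1 hprime).resolve_left htop
      let J : Ideal R := I.colon {a}
      have hmemJ : ∀ r : R, r ∈ J ↔ r * a ∈ I := fun r => by simp [J, Submodule.mem_colon_singleton, smul_eq_mul]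
      have hIJ : I < J := by
        refine lt_of_le_of_ne (fun r hr => (hmemJ r).2 (I.mul_mem_right a hr)) fun e => hb (e ▸ (hmemJ b).2 ?_)
        rwa [mul_comm]
      have hIa : I < I ⊔ Ideal.span {a} :=
        lt_of_le_of_ne le_sup_left fun e => ha (e ▸ Ideal.mem_sup_right (Ideal.mem_span_singleton_self a))
      let f : (R ⧸ J) →ₗ[R] (R ⧸ I) := Submodule.mapQ J I (a • LinearMap.id) fun r hr => by
        show a • r ∈ I
        rw [smul_eq_mul, mul_comm]
        exact (hmemJ r).1 hr
      let g : (R ⧸ I) →ₗ[R] (R ⧸ (I ⊔ Ideal.span {a})) :=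
        Submodule.mapQ I _ LinearMap.id (fun r hr => Ideal.mem_sup_left hr)
      refine ExT.extension hdd hflat f g ?_ ?_ ?_ (ih J hIJ) (ih _ hIa)
      · refine (injective_iff_map_eq_zero _).2 fun y hy => ?_
        obtain ⟨r, rfl⟩ := Submodule.mkQ_surjective J y
        refine (Submodule.Quotient.mk_eq_zero J).2 ((hmemJ r).2 ?_)
        rw [mul_comm]
        exact (Submodule.Quotient.mk_eq_zero I).1 hy
      · intro y
        obtain ⟨y, rfl⟩ := Submodule.mkQ_surjective I y
        refine ⟨fun hy => ?_, ?_⟩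
        · obtain ⟨s, hs, t, ht, rfl⟩ := Submodule.mem_sup.1 ((Submodule.Quotient.mk_eq_zero _).1 hy)
          obtain ⟨r, rfl⟩ := Ideal.mem_span_singleton'.1 ht
          refine ⟨Submodule.Quotient.mk r, (Submodule.Quotient.eq I).2 ?_⟩
          show a • r - (s + r * a) ∈ I
          rw [show a • r - (s + r * a) = -s by rw [smul_eq_mul]; ring]
          exact neg_mem hs
        · rintro ⟨z, hz⟩
          obtain ⟨r, rfl⟩ := Submodule.mkQ_surjective J z
          rw [← hz]
          exact (Submodule.Quotient.mk_eq_zero _).2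
            (Ideal.mem_sup_right (Ideal.mem_span_singleton'.2 ⟨r, mul_comm _ _⟩))
      · intro y
        obtain ⟨r, rfl⟩ := Submodule.mkQ_surjective _ y
        exact ⟨Submodule.Quotient.mk r, rfl⟩

/-- Exactness with ideal coefficients gives flatness of the first term. -/
theorem flat_of_exT (hflat : ∀ j, Module.Flat R (Y (j + 1))) (h : ∀ I : Ideal R, ExT Y d I) :
    Module.Flat R (Y 0) := by
  haveI := hflat 0
  refine Module.Flat.iff_rTensor_injective'.2 fun I => ?_
  intro x y hxy
  exact (h I).1 (Module.Flat.rTensor_preserves_injective_linearMap (M := Y 1) I.subtype Subtype.val_injective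
    (by rw [← lTensor_rTensor_comm, ← lTensor_rTensor_comm, hxy]))

/-- Fibrewise exactness gives exactness with all finite coefficients. -/
theorem ExT.of_residueField' [IsNoetherianRing R] (hdd : ∀ j, (d (j + 1)).comp (d j) = 0)
    (hflat : ∀ j, Module.Flat R (Y (j + 1))) [Module.Finite R (Y 0)]
    (hfib : ∀ p : PrimeSpectrum R, ExT Y d p.asIdeal.ResidueField) (M : Type u) [AddCommGroup M] [Module R M]
    [Module.Finite R M] : ExT Y d M :=
  IsNoetherianRing.induction_on_isQuotientEquivQuotientPrime R (M := M) inferInstance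
    (motive := fun N _ _ _ => ExT Y d N) (fun N _ _ _ _ => ExT.of_subsingleton N)
    (fun N _ _ _ p e => (ExT.of_residueField hdd hflat hfib p.1).congr e.symm)
    (fun N₁ _ _ _ N₂ _ _ _ N₃ _ _ _ f g hf hg hfg h₁ h₃ => ExT.extension hdd hflat f g hf hfg hg h₁ h₃)

/-- Fibrewise exactness gives flatness of the first term. -/
theorem flat_of_residueField [IsNoetherianRing R] (hdd : ∀ j, (d (j + 1)).comp (d j) = 0)
    (hflat : ∀ j, Module.Flat R (Y (j + 1))) [Module.Finite R (Y 0)]
    (hfib : ∀ p : PrimeSpectrum R, ExT Y d p.asIdeal.ResidueField) : Module.Flat R (Y 0) :=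
  flat_of_exT hflat fun I =>
    haveI : Module.Finite R I := Module.Finite.iff_fg.2 (IsNoetherian.noetherian I)
    ExT.of_residueField' hdd hflat hfib I

end StratLib
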