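import Groth.Agent.StratLib.Graded
import Groth.Agent.PnCohLib.Twist

/-!
# Global sections as cocycles of degree zero
-/

set_option autoImplicit false

universe u

open CategoryTheory AlgebraicGeometry TopologicalSpace GradedCechLib Opposite

noncomputable section

namespace StratLib

variable {n : ℕ} {R : Type u} [CommRing R] (M : (CohB1.ProjSpace n R).Modules)

/-- Restriction of global sections to the charts, on tuples. -/
def toY1 : SecR M ⊤ →ₗ[R] Yc (secSys M) 1 :=
  LinearMap.pi fun J => show SecR M ⊤ →ₗ[R] SecR M (Uof (rng J)) from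
    { toFun := fun x => (toS M).symm (rsM M (le_top : (Uof (rng J) : (CohB1.ProjSpace n R).Opens) ≤ ⊤) (toS M x))
      map_add' := fun x y => by simp
      map_smul' := fun r x => by
        apply (toS M).injective
        rw [RingHom.id_apply, AddEquiv.apply_symm_apply, toS_smul, toS_smul, AddEquiv.apply_symm_apply, rsM_smul, resO_cstOn] }

theorem toY1_mem (x : SecR M ⊤) : toY1 M x ∈ Z0 (secSys M) :=
  LinearMap.mem_ker.2 (funext fun K => by
    rw [dY_apply, Fin.sum_univ_two]
    simp only [Fin.val_zero, pow_zero, one_smul, Fin.val_one, pow_one, neg_smul]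
    refine add_neg_eq_zero.2 ((toS M).injective ?_)
    exact (rsM_rsM M _ _ _).trans (rsM_rsM M _ _ _).symm)

theorem cocycle_agree (c : Z0 (secSys M)) (J J' : Fin 1 → Fin (n + 1)) (W : (CohB1.ProjSpace n R).Opens)
    (h : W ≤ Uof (rng J)) (h' : W ≤ Uof (rng J')) :
    rsM M h (toS M (c.1 J)) = rsM M h' (toS M (c.1 J')) := by
  let K : Fin 2 → Fin (n + 1) := ![J' 0, J 0]
  have hK0 : K ∘ Fin.succAbove 0 = J := funext fun a => by fin_cases a; rfl
  have hK1 : K ∘ Fin.succAbove 1 = J' := funext fun a => by fin_cases a; rfl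
  have h0 := congrFun (LinearMap.mem_ker.1 c.2) K
  rw [dY_apply, Fin.sum_univ_two] at h0
  simp only [Fin.val_zero, pow_zero, one_smul, Fin.val_one, pow_one, neg_smul] at h0
  have h1 : res (secSys M) (hK0 ▸ rng_comp K (Fin.succAbove 0)) (c.1 J) =
      res (secSys M) (hK1 ▸ rng_comp K (Fin.succAbove 1)) (c.1 J') := by
    rw [← res_congr' c.1 hK0 (rng_comp K _) (hK0 ▸ rng_comp K _), ← res_congr' c.1 hK1 (rng_comp K _) (hK1 ▸ rng_comp K _)]
    exact add_neg_eq_zero.1 h0
  have hW : W ≤ Uof (rng K) := by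
    refine Finset.le_inf fun a ha => ?_
    simp only [rng, Finset.mem_image, Finset.mem_univ, true_and] at ha
    obtain ⟨b, rfl⟩ := ha
    fin_cases b
    · exact h'.trans (Finset.inf_le (by simp [rng, K]))
    · exact h.trans (Finset.inf_le (by simp [rng, K]))
  have h2 := congrArg (fun z => rsM M hW (toS M z)) h1
  exact ((rsM_rsM M _ _ _).symm.trans h2).trans (rsM_rsM M _ _ _)

/-- Global sections are the cocycles of the coordinate cover. -/
theorem toY1_bijective : Function.Bijective ((toY1 M).codRestrict (Z0 (secSys M)) (toY1_mem M)) := by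
  have hcov : (⨆ i, (Uof (rng (fun _ : Fin 1 => i)) : (CohB1.ProjSpace n R).Opens)) = ⊤ := by
    refine eq_top_iff.2 ((QCohLib.iSup_stdOpen n R).ge.trans (iSup_mono fun i => ?_))
    exact Finset.le_inf fun a ha => by simp [rng] at ha; exact le_of_eq (congrArg _ ha.symm)
  refine ⟨(injective_iff_map_eq_zero _).2 fun x hx => (toS M).injective ?_, fun c => ?_⟩
  · rw [map_zero]
    refine TopCat.Sheaf.eq_of_locally_eq' (Coh.toAb M : TopCat.Sheaf AddCommGrpCat _)
      (fun i => Uof (rng fun _ : Fin 1 => i)) ⊤ (fun i => homOfLE le_top) hcov.ge _ _ fun i => ?_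
    have h := congrArg (fun z => toS M (z fun _ => i)) (congrArg Subtype.val hx)
    exact h.trans (map_zero ((M.presheaf.map (homOfLE le_top).op).hom)).symm
  · obtain ⟨σ, hσ, -⟩ := TopCat.Sheaf.existsUnique_gluing' (Coh.toAb M : TopCat.Sheaf AddCommGrpCat _)
      (fun i => Uof (rng fun _ : Fin 1 => i)) ⊤ (fun i => homOfLE le_top) hcov.ge (fun i => toS M (c.1 fun _ => i))
      fun i j => cocycle_agree M c _ _ _ inf_le_left inf_le_right
    refine ⟨(toS M).symm σ, Subtype.ext (funext fun J => (toS M).injective ?_)⟩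
    have hJ : J = fun _ => J 0 := funext fun a => congrArg J (Subsingleton.elim a 0)
    rw [hJ]
    exact hσ (J 0)

/-- Global sections and cocycles. -/
def globalEquiv : SecR M ⊤ ≃ₗ[R] Z0 (secSys M) :=
  LinearEquiv.ofBijective _ (toY1_bijective M)

/-- Systems agreeing on nonempty sets have the same cocycles. -/
theorem mapZ_bijective {ι : Type} [Fintype ι] [DecidableEq ι] {L Q : Sys R ι} (φ : L ⟶ Q)
    (h : ∀ s : Finset ι, s.Nonempty → Function.Bijective (φ.app s).hom) : Function.Bijective (mapZ φ) := by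
  refine ⟨fun c c' e => Subtype.ext (funext fun J => (h _ (rng_nonempty J)).1 (congrFun (congrArg Subtype.val e) J)),
    fun c => ?_⟩
  choose b hb using fun J : Fin 1 → ι => (h _ (rng_nonempty J)).2 (c.1 J)
  refine ⟨⟨b, LinearMap.mem_ker.2 (funext fun K => (h _ (rng_nonempty K)).1 ?_)⟩, Subtype.ext (funext hb)⟩
  exact (congrFun ((mapY_dY φ 1 b).trans ((congrArg _ (funext hb)).trans c.2)) K).trans (map_zero _).symm

end StratLib
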