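import Groth.Agent.StratLib.Graded

/-!
# Multiplication by powers of a coordinate, and exhaustion of a chart by cocycles
-/

set_option autoImplicit false

universe u

open TensorProduct CategoryTheory CategoryTheory.Limits GradedCechLib MvPolynomial

noncomputable section

namespace StratLib

variable {R : Type u} [CommRing R] {ι : Type} [Fintype ι] [DecidableEq ι]
variable {N : Type u} [AddCommGroup N] [Module (MvPolynomial ι R) N] [Module R N] [IsScalarTower R (MvPolynomial ι R) N]
variable (G : Grading R ι N)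

theorem X_pow_smul_mem (i : ι) (e : ℕ) : ∀ {d : ℤ} {y : N}, y ∈ G.piece d →
    (X i : MvPolynomial ι R) ^ e • y ∈ G.piece (d + e) := by
  induction e with
  | zero => intro d y hy; simpa using hy
  | succ e ih =>
    intro d y hy
    rw [pow_succ', mul_smul, show d + ((e + 1 : ℕ) : ℤ) = d + e + 1 by push_cast; ring]
    exact G.X_smul_mem i _ _ (ih hy)

theorem smul_frac_poly (s : Finset ι) (p : MvPolynomial ι R) (y : N) (m : ℕ) :
    p • frac (R := R) s y m = frac s (p • y) m := by
  rw [frac, LocalizedModule.smul'_mk]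
  rfl

theorem mul_mem_locPiece (i : ι) (e : ℕ) (t t' : ℤ) (h : t' = t + e) (s : Finset ι) (z : Loc R N s)
    (hz : z ∈ locPiece G t s) : (X i : MvPolynomial ι R) ^ e • z ∈ locPiece G t' s := by
  obtain ⟨m, y, hy, rfl⟩ := hz
  refine ⟨m, (X i : MvPolynomial ι R) ^ e • y, ?_, smul_frac_poly s _ y m⟩
  rw [h, show t + (e : ℤ) + m * (s.card : ℤ) = t + m * (s.card : ℤ) + e by ring]
  exact X_pow_smul_mem G i e hy

/-- Multiplication by a power of a coordinate. -/
def mulX (i : ι) (e : ℕ) (t t' : ℤ) (h : t' = t + e) : locSys G t ⟶ locSys G t' where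
  app s := show ModuleCat.of R (locPiece G t s) ⟶ ModuleCat.of R (locPiece G t' s) from
    ModuleCat.ofHom (((LinearMap.lsmul (MvPolynomial ι R) (Loc R N s) ((X i : MvPolynomial ι R) ^ e)).restrictScalars R).restrict
      (p := locPiece G t s) (q := locPiece G t' s) fun z hz => mul_mem_locPiece G i e t t' h s z hz)
  naturality {s u} f := ModuleCat.hom_ext (LinearMap.ext fun (z : locPiece G t s) => Subtype.ext (by
    show (X i : MvPolynomial ι R) ^ e • transLin (leOfHom f) (z : Loc R N s) =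
      transLin (leOfHom f) ((X i : MvPolynomial ι R) ^ e • (z : Loc R N s))
    rw [map_smul]))

theorem frac_zero (s : Finset ι) (m : ℕ) : frac (R := R) s (0 : N) m = 0 := LocalizedModule.zero_mk _

theorem mulX_bijective (i : ι) (e : ℕ) (t t' : ℤ) (h : t' = t + e) (s : Finset ι) (hi : i ∈ s) :
    Function.Bijective ((mulX G i e t t' h).app s).hom := by
  have e1 : xs R s = X i * xs R (s.erase i) := (Finset.mul_prod_erase s (fun j => (X j : MvPolynomial ι R)) hi).symm
  refine ⟨(injective_iff_map_eq_zero _).2 fun (z : locPiece G t s) hz => Subtype.ext ?_,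
    fun (w : locPiece G t' s) => ?_⟩
  · obtain ⟨m, y, -, hy⟩ := z.2
    have h0 : (X i : MvPolynomial ι R) ^ e • (z : Loc R N s) = 0 := congrArg Subtype.val hz
    rw [hy, smul_frac_poly, ← frac_zero (R := R) (N := N) s m, frac_eq_frac_iff] at h0
    obtain ⟨k, hk⟩ := h0
    rw [smul_zero, ← mul_smul] at hk
    show (z : Loc R N s) = 0
    rw [hy, ← frac_zero (R := R) (N := N) s m, frac_eq_frac_iff]
    refine ⟨k + e, ?_⟩
    rw [smul_zero, show k + e + m = k + m + e by omega, pow_add, e1, mul_pow (X i : MvPolynomial ι R) _ e,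
      show ((X i : MvPolynomial ι R) * xs R (s.erase i)) ^ (k + m) * ((X i : MvPolynomial ι R) ^ e * xs R (s.erase i) ^ e) =
        xs R (s.erase i) ^ e * (((X i : MvPolynomial ι R) * xs R (s.erase i)) ^ (k + m) * (X i : MvPolynomial ι R) ^ e) by ring,
      mul_smul, ← e1, hk, smul_zero]
  · obtain ⟨m, y, hy, hw⟩ := w.2
    have hy' : xs R (s.erase i) ^ e • y ∈ G.piece (t + ((m + e : ℕ) : ℤ) * (s.card : ℤ)) := by
      refine pow_xs_smul_mem G _ e hy ?_
      have h1 : ((s.erase i).card : ℤ) = s.card - 1 := by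
        rw [Finset.card_erase_of_mem hi, Nat.cast_sub (Finset.card_pos.2 ⟨i, hi⟩)]; simp
      rw [h1, h]; push_cast; ring
    refine ⟨(⟨frac s (xs R (s.erase i) ^ e • y) (m + e), m + e, _, hy', rfl⟩ : locPiece G t s), Subtype.ext ?_⟩
    show (X i : MvPolynomial ι R) ^ e • frac (R := R) s (xs R (s.erase i) ^ e • y) (m + e) = w.1
    rw [smul_frac_poly, smul_smul, ← mul_pow, ← e1, frac_mul]
    exact hw.symm

/-- A homogeneous element as a cocycle. -/
def clsZ (d : ℤ) (y : N) (hy : y ∈ G.piece d) : Z0 (locSys G d) :=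
  ⟨fun J => (⟨frac (rng J) y 0, 0, y, by simpa using hy, rfl⟩ : locPiece G d (rng J)), LinearMap.mem_ker.2 (funext fun K => by
    rw [dY_apply, Fin.sum_univ_two]
    simp only [Fin.val_zero, pow_zero, one_smul, Fin.val_one, pow_one, neg_smul]
    refine add_neg_eq_zero.2 (Subtype.ext ?_)
    show transLin (rng_comp K (Fin.succAbove 0)) (frac (R := R) (rng (K ∘ Fin.succAbove 0)) y 0) =
      transLin (rng_comp K (Fin.succAbove 1)) (frac (R := R) (rng (K ∘ Fin.succAbove 1)) y 0)
    simp only [transLin_frac, pow_zero, one_smul])⟩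

/-- The tuple of one index. -/
abbrev oneJ (i : ι) : Fin 1 → ι := fun _ => i

/-- The value of a cocycle on a chart. -/
def evalZ (L : Sys R ι) (i : ι) : Z0 L →ₗ[R] L.obj (rng (oneJ i)) :=
  (LinearMap.proj (oneJ i)).comp (Submodule.subtype _)

/-- Every chart element is, after twisting, the value of a cocycle. -/
theorem exists_cls (i : ι) (t : ℤ) (z : locPiece G t (rng (oneJ i))) :
    ∃ e₀ : ℕ, ∀ e : ℕ, e₀ ≤ e → ∀ (t' : ℤ) (h : t' = t + e), ∃ c : Z0 (locSys G t'),
      evalZ (locSys G t') i c = ((mulX G i e t t' h).app (rng (oneJ i))).hom z := by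
  have hr : rng (oneJ i) = {i} := Finset.ext fun a => by simp [rng, oneJ, eq_comm]
  obtain ⟨m, y, hy, hz⟩ := z.2
  refine ⟨m, fun e he t' h => ?_⟩
  have hy' : (X i : MvPolynomial ι R) ^ (e - m) • y ∈ G.piece t' := by
    have := X_pow_smul_mem G i (e - m) hy
    rwa [hr, Finset.card_singleton, show t + (m : ℤ) * ((1 : ℕ) : ℤ) + ((e - m : ℕ) : ℤ) = t' by
      rw [h, Nat.cast_sub he]; push_cast; ring] at this
  refine ⟨clsZ G t' _ hy', Subtype.ext ?_⟩
  show frac (R := R) (rng (oneJ i)) ((X i : MvPolynomial ι R) ^ (e - m) • y) 0 =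
    (X i : MvPolynomial ι R) ^ e • (z : Loc R N (rng (oneJ i)))
  have hx : xs R (rng (oneJ i)) = (X i : MvPolynomial ι R) := by rw [hr, GradedCechLib.xs, Finset.prod_singleton]
  rw [hz, smul_frac_poly, frac_eq_frac_iff]
  refine ⟨0, ?_⟩
  rw [hx, ← mul_smul, ← mul_smul, ← pow_add, ← pow_add]
  congr 2
  omega

/-- A cocycle vanishing on a chart is killed by a power of its coordinate. -/
theorem exists_mulX_eq_zero (i : ι) (t : ℤ) (c : Z0 (locSys G t)) (hc : evalZ (locSys G t) i c = 0) :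
    ∃ e₀ : ℕ, ∀ e : ℕ, e₀ ≤ e → ∀ (t' : ℤ) (h : t' = t + e), mapZ (mulX G i e t t' h) c = 0 := by
  have key : ∀ J : Fin 1 → ι, ∃ e₀ : ℕ, ∀ e : ℕ, e₀ ≤ e →
      (X i : MvPolynomial ι R) ^ e • (Subtype.val (c.1 J) : Loc R N (rng J)) = 0 := fun J => by
    let K : Fin 2 → ι := ![i, J 0]
    have h0 := congrFun (LinearMap.mem_ker.1 c.2) K
    rw [dY_apply, Fin.sum_univ_two] at h0
    simp only [Fin.val_zero, pow_zero, one_smul, Fin.val_one, pow_one, neg_smul] at h0
    have hK0 : K ∘ Fin.succAbove 0 = J := funext fun a => by fin_cases a; rfl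
    have hK1 : K ∘ Fin.succAbove 1 = oneJ i := funext fun a => by fin_cases a; rfl
    have h1 : res (locSys G t) (rng_comp K (Fin.succAbove 1)) (c.1 (K ∘ Fin.succAbove 1)) = 0 := by
      rw [res_congr' c.1 hK1 _ (hK1 ▸ rng_comp K (Fin.succAbove 1)), show c.1 (oneJ i) = 0 from hc, map_zero]
    rw [h1, Pi.zero_apply, neg_zero, add_zero, res_congr' c.1 hK0 _ (hK0 ▸ rng_comp K (Fin.succAbove 0))] at h0
    obtain ⟨m, y, -, hy⟩ := (c.1 J : locPiece G t (rng J)).2
    have hsub : rng J ⊆ rng K := hK0 ▸ rng_comp K (Fin.succAbove 0)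
    have h2 : transLin (R := R) hsub (Subtype.val (c.1 J) : Loc R N (rng J)) = 0 := congrArg Subtype.val h0
    rw [hy, transLin_frac, ← frac_zero (R := R) (N := N) (rng K) m, frac_eq_frac_iff] at h2
    obtain ⟨k, hk⟩ := h2
    rw [smul_zero, ← mul_smul] at hk
    have hdiv : xs R (rng K \ rng J) ∣ (X i : MvPolynomial ι R) := by
      rw [show (X i : MvPolynomial ι R) = ∏ j ∈ ({i} : Finset ι), X j from (Finset.prod_singleton _ _).symm]
      refine Finset.prod_dvd_prod_of_subset _ _ _ fun a ha => ?_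
      rw [Finset.mem_sdiff] at ha
      obtain ⟨ha, haJ⟩ := ha
      simp only [rng, Finset.mem_image, Finset.mem_univ, true_and] at ha haJ
      obtain ⟨b, rfl⟩ := ha
      fin_cases b
      · simp [K]
      · exact absurd ⟨0, rfl⟩ haJ
    obtain ⟨q, hq⟩ := hdiv
    refine ⟨k + m + m, fun e he => ?_⟩
    rw [hy, smul_frac_poly, ← frac_zero (R := R) (N := N) (rng J) m, frac_eq_frac_iff]
    refine ⟨k, ?_⟩
    obtain ⟨e', rfl⟩ := Nat.exists_eq_add_of_le he
    rw [smul_zero, ← mul_smul, hq, show xs R (rng J) ^ (k + m) * (xs R (rng K \ rng J) * q) ^ (k + m + m + e') =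
        (xs R (rng K \ rng J) ^ e' * q ^ (k + m + m + e')) *
          ((xs R (rng J) * xs R (rng K \ rng J)) ^ (k + m) * xs R (rng K \ rng J) ^ m) by ring,
      xs_mul_sdiff hsub, mul_smul, hk, smul_zero]
  choose e₀ he₀ using key
  refine ⟨∑ J, e₀ J, fun e he t' h => Subtype.ext (funext fun J => Subtype.ext ?_)⟩
  exact he₀ J e ((Finset.single_le_sum (fun _ _ => Nat.zero_le _) (Finset.mem_univ J)).trans he)

end StratLib
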