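import Groth.Agent.StratLib.Uniform
import Groth.Agent.GradedCechLib.System

/-!
# The augmented complex of a system
-/

set_option autoImplicit false

universe u

open TensorProduct CategoryTheory CategoryTheory.Limits GradedCechLib

noncomputable section

namespace StratLib

variable {R : Type u} [CommRing R] {ι : Type} [Fintype ι] [DecidableEq ι]

/-- The terms: products over tuples, the empty tuple included. -/
abbrev Yc (L : Sys R ι) (j : ℕ) : Type u := ∀ J : Fin j → ι, L.obj (rng J)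

/-- The differentials. -/
def dY (L : Sys R ι) (j : ℕ) : Yc L j →ₗ[R] Yc L (j + 1) :=
  LinearMap.pi fun J => ∑ k : Fin (j + 1), ((-1 : ℤ) ^ (k : ℕ)) •
    (res L (rng_comp J k.succAbove)).comp (LinearMap.proj (J ∘ k.succAbove))

theorem dY_apply (L : Sys R ι) (j : ℕ) (c : Yc L j) (J : Fin (j + 1) → ι) :
    dY L j c J = ∑ k : Fin (j + 1), ((-1 : ℤ) ^ (k : ℕ)) • res L (rng_comp J k.succAbove) (c (J ∘ k.succAbove)) := by
  simp [dY, LinearMap.sum_apply]

theorem dY_succ (L : Sys R ι) (j : ℕ) : dY L (j + 1) = dd L j := rfl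

theorem res_congr' {L : Sys R ι} {n : ℕ} (c : Yc L n) {J K : Fin n → ι} (e : J = K) {t : Finset ι} (h : rng J ⊆ t)
    (h' : rng K ⊆ t) : res L h (c J) = res L h' (c K) := by
  subst e
  rfl

theorem dY_dY (L : Sys R ι) (j : ℕ) : (dY L (j + 1)).comp (dY L j) = 0 := by
  refine LinearMap.ext fun c => ?_
  rcases j with _ | j
  · funext J
    show dY L 1 (dY L 0 c) J = 0
    rw [dY_apply, Fin.sum_univ_two]
    simp only [Fin.val_zero, pow_zero, one_smul, Fin.val_one, pow_one, neg_smul]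
    rw [dY_apply, dY_apply, Fin.sum_univ_one, Fin.sum_univ_one]
    simp only [Fin.val_zero, pow_zero, one_smul, res_res]
    exact add_neg_eq_zero.2 (res_congr' c (Subsingleton.elim _ _) _ _)
  · have h := congrArg (fun f : (cx L).X j ⟶ (cx L).X (j + 1 + 1) => f.hom c) ((cx L).d_comp_d j (j + 1) (j + 1 + 1))
    refine Eq.trans ?_ h
    show dd L (j + 1) (dd L j c) = ((cx L).d (j + 1) (j + 1 + 1)).hom (((cx L).d j (j + 1)).hom c)
    exact ((cx_d (L := L) (j + 1) (dd L j c)).symm.trans (congrArg ((cx L).d (j + 1) (j + 1 + 1)).hom (cx_d (L := L) j c).symm))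

/-- Exactness of the augmented complex. -/
def Aug (L : Sys R ι) : Prop := Function.Injective (dY L 0) ∧ ∀ j, Function.Exact (dY L j) (dY L (j + 1))

theorem exact_of_isZero (L : Sys R ι) (j : ℕ) (h : IsZero (H L (j + 1))) :
    Function.Exact (dY L (j + 1)) (dY L (j + 2)) := by
  rw [← HomologicalComplex.exactAt_iff_isZero_homology,
    HomologicalComplex.exactAt_iff' _ j (j + 1) (j + 2) (by simp) (by simp), ShortComplex.moduleCat_exact_iff] at h
  intro c
  refine ⟨fun hc => ?_, ?_⟩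
  · obtain ⟨b, hb⟩ := h c ((cx_d (L := L) (j + 1) c).trans hc)
    exact ⟨b, (cx_d (L := L) j b).symm.trans hb⟩
  · rintro ⟨b, rfl⟩
    exact LinearMap.congr_fun (dY_dY L (j + 1)) b

/-- A map of systems on the terms. -/
def mapY {L L' : Sys R ι} (φ : L ⟶ L') (j : ℕ) : Yc L j →ₗ[R] Yc L' j :=
  LinearMap.pi fun J => (φ.app (rng J)).hom.comp (LinearMap.proj J)

theorem mapY_dY {L L' : Sys R ι} (φ : L ⟶ L') (j : ℕ) (c : Yc L j) :
    mapY φ (j + 1) (dY L j c) = dY L' j (mapY φ j c) := by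
  funext J
  show (φ.app (rng J)).hom (dY L j c J) = _
  rw [dY_apply, dY_apply, map_sum]
  exact Finset.sum_congr rfl fun k _ => by rw [map_zsmul, app_res]; rfl

theorem exT_congr_of_bijective {Y : ℕ → Type u} [∀ j, AddCommGroup (Y j)] [∀ j, Module R (Y j)]
    {d : ∀ j, Y j →ₗ[R] Y (j + 1)} (M : Type u) [AddCommGroup M] [Module R M] (L : Sys R ι)
    (e : ∀ j, M ⊗[R] Y j →ₗ[R] Yc L j) (he : ∀ j, Function.Bijective (e j))
    (hc : ∀ j x, e (j + 1) ((d j).lTensor M x) = dY L j (e j x)) (h : Aug L) : ExT Y d M := by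
  refine ⟨fun a b hab => (he 0).1 (h.1 ?_), fun j y => ?_⟩
  · rw [← hc, ← hc, hab]
  · rw [← map_eq_zero_iff _ (he (j + 2)).1, hc, h.2 j (e (j + 1) y)]
    constructor
    · rintro ⟨x, hx⟩
      obtain ⟨x, rfl⟩ := (he j).2 x
      rw [← hc] at hx
      exact ⟨x, (he (j + 1)).1 hx⟩
    · rintro ⟨x, rfl⟩
      exact ⟨e j x, (hc j x).symm⟩

section Tens

variable (M : Type u) [AddCommGroup M] [Module R M]

/-- The system tensored with a module. -/
def tensSys (L : Sys R ι) : Sys R ι where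
  obj s := ModuleCat.of R (M ⊗[R] L.obj s)
  map f := ModuleCat.ofHom ((L.map f).hom.lTensor M)
  map_id s := ModuleCat.hom_ext (by simp [LinearMap.lTensor_id])
  map_comp f g := ModuleCat.hom_ext (by simp [LinearMap.lTensor_comp])

/-- Tensor products and finite products commute. -/
def eY (L : Sys R ι) (j : ℕ) : M ⊗[R] Yc L j ≃ₗ[R] Yc (tensSys M L) j :=
  TensorProduct.piRight R R M fun J : Fin j → ι => L.obj (rng J)

theorem eY_dY (L : Sys R ι) (j : ℕ) (x : M ⊗[R] Yc L j) :
    eY M L (j + 1) ((dY L j).lTensor M x) = dY (tensSys M L) j (eY M L j x) := by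
  induction x with
  | zero => simp
  | add x y hx hy => simp only [map_add, hx, hy]
  | tmul m c =>
    funext J
    show (TensorProduct.piRight R R M _) (m ⊗ₜ dY L j c) J = _
    rw [TensorProduct.piRight_apply, TensorProduct.piRightHom_tmul]
    show m ⊗ₜ[R] dY L j c J = _
    erw [dY_apply, dY_apply, TensorProduct.tmul_sum]
    refine Finset.sum_congr rfl fun k _ => ?_
    show m ⊗ₜ[R] (((-1 : ℤ) ^ (k : ℕ)) • res L (rng_comp J k.succAbove) (c (J ∘ k.succAbove))) =
      ((-1 : ℤ) ^ (k : ℕ)) • ((L.map (homOfLE (rng_comp J k.succAbove))).hom.lTensor M (m ⊗ₜ[R] c (J ∘ k.succAbove)))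
    rw [TensorProduct.tmul_smul, LinearMap.lTensor_tmul]
    rfl

/-- Exactness with coefficients in high degrees. -/
theorem exact_top (L : Sys R ι) (j : ℕ) (hj : Fintype.card ι + 1 ≤ j) :
    Function.Exact ((dY L j).lTensor M) ((dY L (j + 1)).lTensor M) := by
  obtain ⟨i, rfl⟩ : ∃ i, j = i + 1 := ⟨j - 1, by omega⟩
  have h := exact_of_isZero (tensSys M L) i (isZero_of_card_le (tensSys M L) (i + 1) (by omega))
  intro y
  rw [← map_eq_zero_iff _ (eY M L (i + 3)).injective, eY_dY, h (eY M L (i + 2) y)]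
  constructor
  · rintro ⟨x, hx⟩
    obtain ⟨x, rfl⟩ := (eY M L (i + 1)).surjective x
    rw [← eY_dY] at hx
    exact ⟨x, (eY M L (i + 2)).injective hx⟩
  · rintro ⟨x, rfl⟩
    exact ⟨eY M L (i + 1) x, (eY_dY M L (i + 1) x).symm⟩

/-- Flatness of the terms. -/
theorem flat_bY (B : Type u) [CommRing B] [Algebra R B] (L : Sys R ι)
    (h : ∀ s : Finset ι, s.Nonempty → Module.Flat B (B ⊗[R] L.obj s)) (j : ℕ) :
    Module.Flat B (B ⊗[R] Yc L (j + 1)) := by
  haveI : ∀ J : Fin (j + 1) → ι, Module.Flat B (B ⊗[R] L.obj (rng J)) := fun J => h _ (rng_nonempty J)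
  haveI : Module.Flat B (∀ J : Fin (j + 1) → ι, B ⊗[R] L.obj (rng J)) :=
    Module.Flat.of_linearEquiv (DFinsupp.linearEquivFunOnFintype (R := B)
      (M := fun J : Fin (j + 1) → ι => B ⊗[R] L.obj (rng J))).symm
  exact Module.Flat.of_linearEquiv (TensorProduct.piRight R B B fun J : Fin (j + 1) → ι => L.obj (rng J))

end Tens

/-- Coefficients in a quotient ring, from a quotient system. -/
theorem exT_quotient {L Q : Sys R ι} (φ : L ⟶ Q) (I : Ideal R)
    (hs : ∀ s : Finset ι, Function.Surjective (φ.app s).hom)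
    (hk : ∀ s : Finset ι, LinearMap.ker (φ.app s).hom = I • ⊤) (hQ : Aug Q) :
    ExT (Yc L) (dY L) (R ⧸ I) := by
  let θ : ∀ j, (R ⧸ I) ⊗[R] Yc L j ≃ₗ[R] Yc Q j := fun j =>
    TensorProduct.piRight R R (R ⧸ I) (fun J : Fin j → ι => L.obj (rng J)) ≪≫ₗ LinearEquiv.piCongrRight fun J =>
      TensorProduct.quotTensorEquivQuotSMul (L.obj (rng J)) I ≪≫ₗ
        Submodule.quotEquivOfEq _ _ (hk (rng J)).symm ≪≫ₗ (φ.app (rng J)).hom.quotKerEquivOfSurjective (hs _)
  have hθ : ∀ j (r : R) (c : Yc L j), θ j (Ideal.Quotient.mk I r ⊗ₜ c) = r • mapY φ j c := fun j r c => by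
    funext J
    show (φ.app (rng J)).hom.quotKerEquivOfSurjective (hs _) (Submodule.quotEquivOfEq _ _ (hk (rng J)).symm
      (TensorProduct.quotTensorEquivQuotSMul (L.obj (rng J)) I (Ideal.Quotient.mk I r ⊗ₜ c J))) = _
    rw [TensorProduct.quotTensorEquivQuotSMul_mk_tmul, Submodule.quotEquivOfEq_mk]
    show (φ.app (rng J)).hom (r • c J) = _
    rw [map_smul]
    rfl
  refine exT_congr_of_bijective (R ⧸ I) Q (fun j => (θ j).toLinearMap) (fun j => (θ j).bijective) (fun j x => ?_) hQ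
  induction x with
  | zero => simp
  | add x y hx hy => simp only [map_add, hx, hy]
  | tmul a c =>
    obtain ⟨r, rfl⟩ := Ideal.Quotient.mk_surjective a
    simp only [LinearMap.lTensor_tmul, LinearEquiv.coe_coe, hθ, mapY_dY, map_smul]

end StratLib
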