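import Groth.Agent.StratLib.Pure

/-!
# Uniform exactness on the fibres of a sequence of complexes
-/

set_option autoImplicit false

universe u

open TensorProduct

noncomputable section

namespace StratLib

variable {A : Type u} [CommRing A]

section Transfer

variable {Y : ℕ → Type u} [∀ j, AddCommGroup (Y j)] [∀ j, Module A (Y j)] {d : ∀ j, Y j →ₗ[A] Y (j + 1)}
  (B : Type u) [CommRing B] [Algebra A B]

/-- The base changed terms. -/
abbrev bY (Y : ℕ → Type u) [∀ j, AddCommGroup (Y j)] [∀ j, Module A (Y j)] (j : ℕ) : Type u := B ⊗[A] Y j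

/-- The base changed differentials. -/
abbrev bd (d : ∀ j, Y j →ₗ[A] Y (j + 1)) (j : ℕ) : bY (A := A) B Y j →ₗ[B] bY (A := A) B Y (j + 1) :=
  (d j).baseChange B

theorem bd_bd (hdd : ∀ j, (d (j + 1)).comp (d j) = 0) (j : ℕ) : (bd B d (j + 1)).comp (bd B d j) = 0 := by
  rw [← LinearMap.baseChange_comp, hdd, LinearMap.baseChange_zero]

variable (M : Type u) [AddCommGroup M] [Module A M] [Module B M] [IsScalarTower A B M]

theorem cancel_lTensor {N N' : Type u} [AddCommGroup N] [Module A N] [AddCommGroup N'] [Module A N'] (g : N →ₗ[A] N')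
    (x : M ⊗[B] (B ⊗[A] N)) :
    AlgebraTensorModule.cancelBaseChange A B B M N' ((g.baseChange B).lTensor M x) =
      g.lTensor M (AlgebraTensorModule.cancelBaseChange A B B M N x) := by
  induction x with
  | zero => simp
  | add x y hx hy => simp only [map_add, hx, hy]
  | tmul m z =>
    induction z with
    | zero => simp
    | add x y hx hy => simp only [tmul_add, map_add, hx, hy]
    | tmul b n => simp

/-- Coefficients over an algebra are coefficients over the base. -/
theorem exT_bc_iff : ExT (bY (A := A) B Y) (bd B d) M ↔ ExT Y d M := by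
  let e := fun j => AlgebraTensorModule.cancelBaseChange A B B M (Y j)
  have hc : ∀ j x, e (j + 1) ((bd B d j).lTensor M x) = (d j).lTensor M (e j x) := fun j x => cancel_lTensor B M (d j) x
  constructor
  · rintro ⟨h0, h1⟩
    refine ⟨fun a b hab => ?_, fun j y => ?_⟩
    · obtain ⟨a, rfl⟩ := (e 0).surjective a
      obtain ⟨b, rfl⟩ := (e 0).surjective b
      rw [← hc, ← hc] at hab
      exact congrArg _ (h0 ((e 1).injective hab))
    · obtain ⟨y, rfl⟩ := (e (j + 1)).surjective y
      rw [← hc, map_eq_zero_iff _ (e (j + 2)).injective, h1 j y]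
      constructor
      · rintro ⟨x, rfl⟩
        exact ⟨e j x, (hc j x).symm⟩
      · rintro ⟨x, hx⟩
        obtain ⟨x, rfl⟩ := (e j).surjective x
        rw [← hc] at hx
        exact ⟨x, (e (j + 1)).injective hx⟩
  · rintro ⟨h0, h1⟩
    refine ⟨fun a b hab => (e 0).injective (h0 (by rw [← hc, ← hc, hab])), fun j y => ?_⟩
    rw [← map_eq_zero_iff _ (e (j + 2)).injective, hc, h1 j (e (j + 1) y)]
    constructor
    · rintro ⟨x, hx⟩
      obtain ⟨x, rfl⟩ := (e j).surjective x
      rw [← hc] at hx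
      exact ⟨x, (e (j + 1)).injective hx⟩
    · rintro ⟨x, rfl⟩
      exact ⟨e j x, (hc j x).symm⟩

theorem top_bc (j : ℕ)
    (h : ∀ (M : Type u) [AddCommGroup M] [Module A M], Function.Exact ((d j).lTensor M) ((d (j + 1)).lTensor M)) :
    Function.Exact ((bd B d j).lTensor M) ((bd B d (j + 1)).lTensor M) := by
  let e := fun j => AlgebraTensorModule.cancelBaseChange A B B M (Y j)
  have hc : ∀ j x, e (j + 1) ((bd B d j).lTensor M x) = (d j).lTensor M (e j x) := fun j x => cancel_lTensor B M (d j) x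
  intro y
  rw [← map_eq_zero_iff _ (e (j + 2)).injective, hc, h M (e (j + 1) y)]
  constructor
  · rintro ⟨x, hx⟩
    obtain ⟨x, rfl⟩ := (e j).surjective x
    rw [← hc] at hx
    exact ⟨x, (e (j + 1)).injective hx⟩
  · rintro ⟨x, rfl⟩
    exact ⟨e j x, (hc j x).symm⟩

/-- Exactness on the fibres passes to residue fields of algebras. -/
theorem exT_residueField_bc (q : PrimeSpectrum B)
    (h : ExT Y d (q.comap (algebraMap A B)).asIdeal.ResidueField) :
    ExT (bY (A := A) B Y) (bd B d) q.asIdeal.ResidueField := by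
  let p := (q.comap (algebraMap A B)).asIdeal
  let K := q.asIdeal.ResidueField
  letI : Algebra p.ResidueField K :=
    (Ideal.ResidueField.map p q.asIdeal (algebraMap A B) rfl).toAlgebra
  haveI : IsScalarTower A p.ResidueField K := IsScalarTower.of_algebraMap_eq fun a => by
    rw [RingHom.algebraMap_toAlgebra, IsScalarTower.algebraMap_apply A B K]
    exact (Ideal.ResidueField.map_algebraMap p q.asIdeal (algebraMap A B) rfl a).symm
  refine (exT_bc_iff B K).2 ((exT_bc_iff p.ResidueField K).1 ?_)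
  exact ((exT_bc_iff p.ResidueField p.ResidueField).2 h).of_flat K

/-- **Flatness of the first term** after a base change making the other terms flat. -/
theorem flat_first_of_fibres [IsNoetherianRing B] (hdd : ∀ j, (d (j + 1)).comp (d j) = 0)
    (hflat : ∀ j, Module.Flat B (B ⊗[A] Y (j + 1))) [Module.Finite A (Y 0)]
    (hfib : ∀ p : PrimeSpectrum A, ExT Y d p.asIdeal.ResidueField) : Module.Flat B (B ⊗[A] Y 0) :=
  flat_of_residueField (Y := bY (A := A) B Y) (d := bd B d) (bd_bd B hdd) hflat
    fun q => exT_residueField_bc B q (hfib _)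

end Transfer

section Uniform

variable [IsNoetherianRing A] (Y : ℕ → ℕ → Type u) [∀ m j, AddCommGroup (Y m j)] [∀ m j, Module A (Y m j)]
  (d : ∀ m j, Y m j →ₗ[A] Y m (j + 1))

/-- The fibre ranks of the first terms. -/
def rk (m : ℕ) (q : PrimeSpectrum A) : ℕ :=
  Module.finrank q.asIdeal.ResidueField (q.asIdeal.ResidueField ⊗[A] Y m 0)

theorem finrank_fibre_bc {M : Type u} [AddCommGroup M] [Module A M] (B : Type u) [CommRing B] [Algebra A B]
    (q : PrimeSpectrum B) :
    Module.finrank q.asIdeal.ResidueField (q.asIdeal.ResidueField ⊗[B] (B ⊗[A] M)) =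
      Module.finrank (q.comap (algebraMap A B)).asIdeal.ResidueField
        ((q.comap (algebraMap A B)).asIdeal.ResidueField ⊗[A] M) := by
  let p := (q.comap (algebraMap A B)).asIdeal
  let K := q.asIdeal.ResidueField
  letI : Algebra p.ResidueField K :=
    (Ideal.ResidueField.map p q.asIdeal (algebraMap A B) rfl).toAlgebra
  haveI : IsScalarTower A p.ResidueField K := IsScalarTower.of_algebraMap_eq fun a => by
    rw [RingHom.algebraMap_toAlgebra, IsScalarTower.algebraMap_apply A B K]
    exact (Ideal.ResidueField.map_algebraMap p q.asIdeal (algebraMap A B) rfl a).symm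
  rw [(AlgebraTensorModule.cancelBaseChange A B K K M).finrank_eq,
    ← (AlgebraTensorModule.cancelBaseChange A p.ResidueField K K M).finrank_eq, Module.finrank_baseChange]

theorem finrank_fibre_eq_rankAtStalk {R M : Type u} [CommRing R] [AddCommGroup M] [Module R M] (q : PrimeSpectrum R)
    [Module.Finite R M] [Module.Flat R M] :
    Module.finrank q.asIdeal.ResidueField (q.asIdeal.ResidueField ⊗[R] M) = Module.rankAtStalk M q := by
  have h := Module.rankAtStalk_baseChange (R := R) (M := M) (S := q.asIdeal.ResidueField)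
    (⊥ : PrimeSpectrum q.asIdeal.ResidueField)
  rw [Module.rankAtStalk_eq_finrank_of_free] at h
  rw [Pi.natCast_apply] at h
  refine h.trans (congrArg (Module.rankAtStalk M) (PrimeSpectrum.ext (Ideal.ext fun x => ?_)))
  show algebraMap R q.asIdeal.ResidueField x ∈ (⊥ : PrimeSpectrum q.asIdeal.ResidueField).asIdeal ↔ _
  rw [show (⊥ : PrimeSpectrum q.asIdeal.ResidueField).asIdeal = ⊥ from rfl, Ideal.mem_bot,
    Ideal.algebraMap_residueField_eq_zero]

variable {Y d} (hdd : ∀ m j, (d m (j + 1)).comp (d m j) = 0) [∀ m, Module.Finite A (Y m 0)] (j₀ : ℕ)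
  (htop : ∀ m (M : Type u) [AddCommGroup M] [Module A M] (j : ℕ), j₀ ≤ j →
    Function.Exact ((d m j).lTensor M) ((d m (j + 1)).lTensor M))
  (hgen : ∀ p : Ideal A, p.IsPrime → ∃ a, a ∉ p ∧ ∀ m j,
    Module.Flat (Localization.Away (Ideal.Quotient.mk p a))
      (Localization.Away (Ideal.Quotient.mk p a) ⊗[A] Y m (j + 1)))
  (hserre : ∀ p : Ideal A, p.IsPrime → ∃ N, ∀ m, N ≤ m → ExT (Y m) (d m) (A ⧸ p))

include hdd htop hgen hserre in
/-- **Uniformity**: one bound makes all fibres exact, with finitely many rank functions. -/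
theorem exists_uniform (I : Ideal A) :
    ∃ (N : ℕ) (S : Finset (ℕ → ℕ)), ∀ q : PrimeSpectrum A, I ≤ q.asIdeal →
      (∀ m, N ≤ m → ExT (Y m) (d m) q.asIdeal.ResidueField) ∧ ∃ r ∈ S, ∀ m, N ≤ m → rk Y m q = r m := by
  classical
  refine IsNoetherian.induction (P := fun I : Ideal A => ∃ (N : ℕ) (S : Finset (ℕ → ℕ)), ∀ q : PrimeSpectrum A,
    I ≤ q.asIdeal → (∀ m, N ≤ m → ExT (Y m) (d m) q.asIdeal.ResidueField) ∧
      ∃ r ∈ S, ∀ m, N ≤ m → rk Y m q = r m) (fun (I : Ideal A) ih => ?_) I
  by_cases htop' : I = ⊤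
  · exact ⟨0, ∅, fun q hq => absurd (top_le_iff.1 (htop' ▸ hq)) q.2.ne_top⟩
  by_cases hprime : I.IsPrime
  · obtain ⟨a, ha, hfl⟩ := hgen I hprime
    obtain ⟨N₀, hN₀⟩ := hserre I hprime
    obtain ⟨N₁, S₁, hS₁⟩ := ih (I ⊔ Ideal.span {a})
      (lt_of_le_of_ne le_sup_left fun e => ha (e ▸ Ideal.mem_sup_right (Ideal.mem_span_singleton_self a)))
    let L := Localization.Away (Ideal.Quotient.mk I a)
    haveI : Nontrivial (A ⧸ I) := Ideal.Quotient.nontrivial_iff.2 htop'
    haveI : IsDomain (A ⧸ I) := Ideal.Quotient.isDomain I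
    have hne : Ideal.Quotient.mk I a ≠ 0 := fun h => ha (Ideal.Quotient.eq_zero_iff_mem.1 h)
    haveI : IsDomain L := IsLocalization.isDomain_of_le_nonZeroDivisors (R := A ⧸ I) (S := L)
      (powers_le_nonZeroDivisors_of_noZeroDivisors hne)
    have hex : ∀ m, N₀ ≤ m → ∀ (M : Type u) [AddCommGroup M] [Module A M] [Module L M] [IsScalarTower A L M],
        ExT (Y m) (d m) M := fun m hm M _ _ _ _ => by
      refine (exT_bc_iff L M).1 (ExT.descend (bd_bd L (hdd m)) (hfl m) j₀ ?_ ?_ M)
      · intro M' _ _ j hj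
        letI : Module A M' := Module.compHom M' (algebraMap A L)
        haveI : IsScalarTower A L M' := IsScalarTower.of_algebraMap_smul fun _ _ => rfl
        exact top_bc L M' j fun M'' _ _ => htop m M'' j hj
      · refine (exT_bc_iff L L).2 ((exT_bc_iff (A ⧸ I) L).1 ?_)
        haveI : Module.Flat (A ⧸ I) L := IsLocalization.flat _ (Submonoid.powers (Ideal.Quotient.mk I a))
        exact ((exT_bc_iff (A ⧸ I) (A ⧸ I)).2 (hN₀ m hm)).of_flat L
    let η : PrimeSpectrum L := ⟨⊥, Ideal.isPrime_bot⟩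
    refine ⟨max N₀ N₁, insert (fun m => rk Y m (η.comap (algebraMap A L))) S₁, fun q hq => ?_⟩
    by_cases haq : a ∈ q.asIdeal
    · obtain ⟨h1, r, hr, h2⟩ := hS₁ q (sup_le hq (by simpa [Ideal.span_singleton_le_iff_mem] using haq))
      exact ⟨fun m hm => h1 m (le_of_max_le_right hm), r, Finset.mem_insert_of_mem hr,
        fun m hm => h2 m (le_of_max_le_right hm)⟩
    let κ := q.asIdeal.ResidueField
    let π : (A ⧸ I) →+* κ := Ideal.Quotient.lift I (algebraMap A κ) fun x hx =>
      Ideal.algebraMap_residueField_eq_zero.2 (hq hx)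
    have hu : IsUnit (π (Ideal.Quotient.mk I a)) :=
      IsUnit.mk0 _ fun h => haq (Ideal.algebraMap_residueField_eq_zero.1 h)
    letI : Algebra L κ := (IsLocalization.Away.lift (Ideal.Quotient.mk I a) hu).toAlgebra
    haveI : IsScalarTower A L κ := IsScalarTower.of_algebraMap_eq fun x => by
      rw [RingHom.algebraMap_toAlgebra, IsScalarTower.algebraMap_apply A (A ⧸ I) L, IsLocalization.Away.lift_eq]
      rfl
    refine ⟨fun m hm => hex m (le_of_max_le_left hm) κ, _, Finset.mem_insert_self _ _, fun m hm => ?_⟩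
    let q' : PrimeSpectrum L := ⟨RingHom.ker (algebraMap L κ), RingHom.ker_isPrime _⟩
    have hqq : q'.comap (algebraMap A L) = q := PrimeSpectrum.ext (Ideal.ext fun x => by
      show algebraMap L κ (algebraMap A L x) = 0 ↔ _
      rw [← IsScalarTower.algebraMap_apply, Ideal.algebraMap_residueField_eq_zero])
    haveI : IsNoetherianRing L := IsLocalization.isNoetherianRing (Submonoid.powers (Ideal.Quotient.mk I a)) L inferInstance
    haveI : Module.Flat L (L ⊗[A] Y m 0) :=
      flat_of_exT (Y := bY (A := A) L (Y m)) (d := bd L (d m)) (hfl m) fun J => by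
        exact (exT_bc_iff L J).2 (hex m (le_of_max_le_left hm) J)
    have h3 := Module.rankAtStalk_eq_of_le_of_finite_of_flat (M := L ⊗[A] Y m 0) (p := η) (q := q') bot_le
    rw [← finrank_fibre_eq_rankAtStalk, ← finrank_fibre_eq_rankAtStalk,
      finrank_fibre_bc L η, finrank_fibre_bc L q', hqq] at h3
    exact h3.symm
  · obtain ⟨x, hx, y, hy, hxy⟩ := (Ideal.not_isPrime_iff.1 hprime).resolve_left htop'
    obtain ⟨N₁, S₁, h₁⟩ := ih (I ⊔ Ideal.span {x})
      (lt_of_le_of_ne le_sup_left fun e => hx (e ▸ Ideal.mem_sup_right (Ideal.mem_span_singleton_self x)))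
    obtain ⟨N₂, S₂, h₂⟩ := ih (I ⊔ Ideal.span {y})
      (lt_of_le_of_ne le_sup_left fun e => hy (e ▸ Ideal.mem_sup_right (Ideal.mem_span_singleton_self y)))
    refine ⟨max N₁ N₂, S₁ ∪ S₂, fun q hq => ?_⟩
    rcases q.2.mem_or_mem (hq hxy) with h | h
    · obtain ⟨e1, r, hr, e2⟩ := h₁ q (sup_le hq (by simpa [Ideal.span_singleton_le_iff_mem] using h))
      exact ⟨fun m hm => e1 m (le_of_max_le_left hm), r, Finset.mem_union_left _ hr,
        fun m hm => e2 m (le_of_max_le_left hm)⟩
    · obtain ⟨e1, r, hr, e2⟩ := h₂ q (sup_le hq (by simpa [Ideal.span_singleton_le_iff_mem] using h))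
      exact ⟨fun m hm => e1 m (le_of_max_le_right hm), r, Finset.mem_union_right _ hr,
        fun m hm => e2 m (le_of_max_le_right hm)⟩

end Uniform

end StratLib
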